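import Cfsg.Agent.Lib.PGroup.FixedHalf.Basic
import Cfsg.Agent.Lib.PGroup.ElementaryBasic
import Mathlib.RingTheory.Artinian.Module

/-!
# Fixed points: a non-central elementary abelian normal subgroup
-/

set_option autoImplicit false
set_option linter.style.haveILetI false
set_option linter.unusedSectionVars false

namespace CfsgLib.PGroup.FixedHalf

open Module Polynomial
open scoped Pointwise

universe u

variable {G : Type u} [Group G] [Finite G] {k : Type*} [Field k] {V : Type*} [AddCommGroup V]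
  [Module k V] [FiniteDimensional k V] {p : ℕ} [hp : Fact p.Prime] {ρ : G →* End k V} {x : G}

/-- Common fixed vectors of a subgroup. -/
def fixS (ρ : G →* End k V) (S : Subgroup G) : Submodule k V where
  carrier := {v | ∀ b ∈ S, ρ b v = v}
  zero_mem' := fun b _ => map_zero _
  add_mem' := fun hv hw b hb => by rw [map_add, hv b hb, hw b hb]
  smul_mem' := fun c v hv b hb => by rw [map_smul, hv b hb]

theorem mem_fixS {S : Subgroup G} {v : V} : v ∈ fixS ρ S ↔ ∀ b ∈ S, ρ b v = v := Iff.rfl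

theorem fixS_mono {S T : Subgroup G} (h : S ≤ T) : fixS ρ T ≤ fixS ρ S := fun _ hv b hb => hv b (h hb)

theorem fixS_map {S : Subgroup G} {g : G} {v : V} (hv : v ∈ fixS ρ S) :
    ρ g v ∈ fixS ρ (MulAut.conj g • S) := by
  intro b hb
  obtain ⟨c, hc, rfl⟩ := hb
  show ρ (g * c * g⁻¹) (ρ g v) = ρ g v
  rw [← rho_mul, inv_mul_cancel_right, rho_mul, hv c hc]

theorem Setup.fixS_eq_bot (h : Setup ρ x p) (A : Subgroup G) [hA : A.Normal] (hA1 : A ≠ ⊥) :
    fixS ρ A = ⊥ := by
  rcases h.irr (fixS ρ A) (fun g v hv b hb => by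
    have hm : g⁻¹ * b * g ∈ A := by simpa using hA.conj_mem b hb g⁻¹
    rw [← rho_mul, show b * g = g * (g⁻¹ * b * g) by group, rho_mul, hv _ hm]) with e | e
  · exact e
  · refine absurd ((Subgroup.eq_bot_iff_forall A).2 fun a ha => h.inj ?_) hA1
    refine LinearMap.ext fun v => ?_
    rw [map_one, End.one_apply]
    exact (e ▸ Submodule.mem_top : v ∈ fixS ρ A) a ha

theorem fixS_inf_le (S T : Subgroup G) : fixS ρ S ⊓ fixS ρ T ≤ fixS ρ (S ⊔ T) := by
  intro w hw b hb
  let Stab : Subgroup G :=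
    { carrier := {t | ρ t w = w}
      one_mem' := rho_one w
      mul_mem' := fun {s t} hs ht => by
        show ρ (s * t) w = w
        rw [rho_mul, show ρ t w = w from ht, show ρ s w = w from hs]
      inv_mem' := fun {s} hs => by
        show ρ s⁻¹ w = w
        conv_lhs => rw [← show ρ s w = w from hs]
        rw [← rho_mul, inv_mul_cancel, rho_one] }
  exact (sup_le (fun b hb => hw.1 b hb) (fun b hb => hw.2 b hb) : S ⊔ T ≤ Stab) hb

theorem fixS_zpowers {g : G} {v : V} (hv : ρ g v = v) : v ∈ fixS ρ (Subgroup.zpowers g) := by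
  intro c hc
  obtain ⟨n, rfl⟩ := (isOfFinOrder_of_finite g).mem_powers_iff_mem_zpowers.2 hc
  clear hc
  show ρ (g ^ n) v = v
  induction n with
  | zero => rw [pow_zero, rho_one]
  | succ n ih => rw [pow_succ, rho_mul, hv, ih]

/-- In characteristic `q` an elementary abelian `q`-group has a common fixed vector. -/
theorem exists_fixed_of_char [hV : Nontrivial V] {q : ℕ} [Fact q.Prime] [CharP k q] (A : Subgroup G)
    (hc : ∀ a ∈ A, ∀ b ∈ A, a * b = b * a) (he : ∀ a ∈ A, a ^ q = 1) : fixS ρ A ≠ ⊥ := by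
  classical
  obtain ⟨W, hW⟩ := exists_minimal_of_wellFoundedLT
    (fun W : Submodule k V => W ≠ ⊥ ∧ ∀ a ∈ A, ∀ v ∈ W, ρ a v ∈ W)
    ⟨⊤, top_ne_bot, fun _ _ _ _ => Submodule.mem_top⟩
  obtain ⟨hW0, hWA⟩ := hW.prop
  haveI : CharP (End k V) q := charP_of_injective_algebraMap
    (algebraMap k (End k V)).injective q
  intro h
  apply hW0
  rw [eq_bot_iff, ← h]
  intro v hv a ha
  set W' := W ⊓ End.eigenspace (ρ a) 1 with hW'
  have hne : W' ≠ ⊥ := by
    -- `ρ a - 1` is nilpotent
    have hnil : (ρ a - 1) ^ q = (0 : End k V) := by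
      rw [sub_pow_char_of_commute (p := q) (Commute.one_right (ρ a)), ← map_pow, he a ha, map_one,
        one_pow, sub_self]
    obtain ⟨w, hw, hw0⟩ := Submodule.exists_mem_ne_zero_of_ne_bot hW0
    have hex : ∃ n, ((ρ a - 1 : End k V) ^ n) w = 0 := ⟨q, by rw [hnil]; rfl⟩
    have hmem : ∀ n, ((ρ a - 1 : End k V) ^ n) w ∈ W := by
      intro n
      induction n with
      | zero => simpa using hw
      | succ n ih =>
        rw [pow_succ', End.mul_apply, LinearMap.sub_apply, End.one_apply]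
        exact W.sub_mem (hWA a ha _ ih) ih
    set n := Nat.find hex
    obtain ⟨m, hm⟩ : ∃ m, n = m + 1 := by
      refine ⟨n - 1, (Nat.succ_pred_eq_of_pos (Nat.pos_of_ne_zero fun e => hw0 ?_)).symm⟩
      have := Nat.find_spec hex
      rw [show Nat.find hex = 0 from e, pow_zero, End.one_apply] at this
      exact this
    intro hb
    have h1 : ((ρ a - 1 : End k V) ^ m) w ∈ W' := by
      refine ⟨hmem m, End.mem_eigenspace_iff.2 ?_⟩
      have := Nat.find_spec hex
      rw [show Nat.find hex = m + 1 from hm, pow_succ', End.mul_apply, LinearMap.sub_apply,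
        End.one_apply, sub_eq_zero] at this
      rw [this, one_smul]
    rw [hb, Submodule.mem_bot] at h1
    exact Nat.find_min hex (show m < Nat.find hex by omega) h1
  have hinv : ∀ b ∈ A, ∀ w ∈ W', ρ b w ∈ W' := fun b hb w hw => by
    refine ⟨hWA b hb w hw.1, End.mem_eigenspace_iff.2 ?_⟩
    rw [← rho_mul, hc a ha b hb, rho_mul, End.mem_eigenspace_iff.1 hw.2, map_smul]
  have e := hW.eq_of_le ⟨hne, hinv⟩ inf_le_left
  have h2 : v ∈ W' := e ▸ hv
  have h3 := End.mem_eigenspace_iff.1 h2.2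
  rwa [one_smul] at h3

/-- The sum over a subgroup of order dividing `q`. -/
theorem sum_lines {D : Subgroup G} {q : ℕ} [Fact q.Prime] (hq : (q : k) ≠ 0) {v : V}
    (hv : v ∈ fixS ρ D) {a b : G} (hab : a * b = b * a) (ha : a ^ q = 1) (hb : b ^ q = 1)
    (hDa : ∀ d ∈ D, a * d = d * a) (hDb : ∀ d ∈ D, b * d = d * b)
    (hbot : ∀ g : G, g = b ∨ (∃ i : ℕ, g = a * b ^ i) → ∀ w ∈ fixS ρ D, ρ g w = w → w = 0) :
    v = 0 := by
  classical
  let S : G → End k V := fun g => ∑ j ∈ Finset.range q, ρ (g ^ j)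
  have hS : ∀ g : G, g ^ q = 1 → (∀ d ∈ D, g * d = d * g) → ∀ w ∈ fixS ρ D,
      S g w ∈ fixS ρ D ∧ ρ g (S g w) = S g w := by
    intro g hg hgd w hw
    constructor
    · intro d hd
      simp only [S, LinearMap.sum_apply, map_sum]
      refine Finset.sum_congr rfl fun j _ => ?_
      rw [← rho_mul, (Commute.pow_left (hgd d hd) j).eq.symm, rho_mul, hw d hd]
    · simp only [S, LinearMap.sum_apply, map_sum]
      rw [Finset.sum_congr rfl fun j _ => (rho_mul (ρ := ρ) g (g ^ j) w).symm]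
      simp only [← pow_succ']
      obtain ⟨q', hq'⟩ : ∃ q', q = q' + 1 :=
        ⟨q - 1, (Nat.succ_pred_eq_of_pos (Fact.out : q.Prime).pos).symm⟩
      rw [hq', Finset.sum_range_succ (fun j => ρ (g ^ (j + 1)) w),
        Finset.sum_range_succ' (fun j => ρ (g ^ j) w)]
      rw [← hq', hg, pow_zero]
  have hz : ∀ g : G, g ^ q = 1 → (g = b ∨ ∃ i : ℕ, g = a * b ^ i) → S g v = 0 := by
    intro g hg hform
    have hgd : ∀ d ∈ D, g * d = d * g := by
      intro d hd
      rcases hform with rfl | ⟨i, rfl⟩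
      · exact hDb d hd
      · exact (Commute.mul_left (hDa d hd : Commute a d) (Commute.pow_left (hDb d hd) i)).eq
    obtain ⟨h1, h2⟩ := hS g hg hgd v hv
    exact hbot g hform _ h1 h2
  have hbz : S b v = 0 := hz b hb (Or.inl rfl)
  have hline : ∀ i : ℕ, S (a * b ^ i) v = 0 := fun i =>
    hz _ (by rw [Commute.mul_pow (Commute.pow_right hab i), ha, ← pow_mul, mul_comm, pow_mul, hb,
      one_pow, one_mul]) (Or.inr ⟨i, rfl⟩)
  -- summing over all lines
  have key : ∑ i ∈ Finset.range q, S (a * b ^ i) v = (q : k) • v := by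
    simp only [S, LinearMap.sum_apply]
    rw [Finset.sum_comm]
    rw [Finset.sum_eq_single_of_mem 0 (Finset.mem_range.2 (Fact.out : q.Prime).pos)]
    · simp [Finset.sum_const, Nat.cast_smul_eq_nsmul]
    intro j hj hj0
    -- `(a b^i)^j` runs through `a^j ⟨b⟩`
    have hco : Nat.Coprime j q := by
      rw [Nat.coprime_comm, (Fact.out : q.Prime).coprime_iff_not_dvd]
      exact fun hd => absurd (Nat.le_of_dvd (Nat.pos_of_ne_zero hj0) hd)
        (not_le.2 (Finset.mem_range.1 hj))
    have hperm : ∑ i ∈ Finset.range q, ρ ((a * b ^ i) ^ j) v =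
        ∑ l ∈ Finset.range q, ρ (a ^ j * b ^ l) v := by
      refine Finset.sum_nbij (fun i => i * j % q) (fun i _ => Finset.mem_range.2
        (Nat.mod_lt _ (Fact.out : q.Prime).pos)) ?_ ?_ fun i _ => ?_
      · intro i hi i' hi' e
        have e' : i ≡ i' [MOD q] := Nat.ModEq.cancel_right_of_coprime
          (by rw [Nat.gcd_comm]; exact hco) e
        exact Nat.ModEq.eq_of_lt_of_lt e' (Finset.mem_range.1 hi) (Finset.mem_range.1 hi')
      · intro l hl
        obtain ⟨u, hu⟩ := Nat.exists_mul_mod_eq_one_of_coprime hco (Fact.out : q.Prime).one_lt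
        refine ⟨l * u % q, Finset.mem_coe.2 (Finset.mem_range.2 (Nat.mod_lt _ (Fact.out : q.Prime).pos)), ?_⟩
        show l * u % q * j % q = l
        rw [Nat.mod_mul_mod, mul_assoc, mul_comm u j, Nat.mul_mod, hu.2, mul_one, Nat.mod_mod,
          Nat.mod_eq_of_lt (Finset.mem_range.1 hl)]
      · rw [(Commute.pow_right hab i).mul_pow, ← pow_mul, pow_eq_pow_mod (i * j) hb]
    rw [hperm]
    have h3 : ∑ l ∈ Finset.range q, ρ (a ^ j * b ^ l) v = ρ (a ^ j) (S b v) := by
      simp only [S, LinearMap.sum_apply, map_sum, rho_mul]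
    rw [h3, hbz, map_zero]
  rw [Finset.sum_eq_zero fun i _ => hline i] at key
  exact (smul_eq_zero.1 key.symm).resolve_left hq

/-- Some subgroup of index `q` has fixed vectors. -/
theorem exists_hyperplane [hV : Nontrivial V] (A : Subgroup G) {q : ℕ} [Fact q.Prime] (hq : (q : k) ≠ 0)
    (hc : ∀ a ∈ A, ∀ b ∈ A, a * b = b * a) (he : ∀ a ∈ A, a ^ q = 1) (hA0 : fixS ρ A = ⊥) :
    ∃ B ≤ A, B ≠ A ∧ fixS ρ B ≠ ⊥ ∧ ∀ d ∈ A, d ∉ B → B ⊔ Subgroup.zpowers d = A := by
  classical
  obtain ⟨B, hB⟩ := exists_maximal_of_wellFoundedGT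
    (fun B : Subgroup G => B ≤ A ∧ fixS ρ B ≠ ⊥)
    ⟨⊥, bot_le, fun e => top_ne_bot (α := Submodule k V) (le_bot_iff.1 (le_trans (show (⊤ : Submodule k V) ≤ fixS ρ ⊥ from fun v _ b hb => by
      rw [Subgroup.mem_bot.1 hb, rho_one]) e.le))⟩
  obtain ⟨hBA, hBf⟩ := hB.prop
  refine ⟨B, hBA, fun e => hBf (e ▸ hA0), hBf, fun d hd hdB => ?_⟩
  by_contra hne
  have hle : B ⊔ Subgroup.zpowers d ≤ A := sup_le hBA (Subgroup.zpowers_le.2 hd)
  obtain ⟨a, ha, haB⟩ := SetLike.exists_of_lt (lt_of_le_of_ne hle hne)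
  apply hBf
  rw [eq_bot_iff]
  intro v hv
  refine Submodule.mem_bot k |>.2 (sum_lines hq hv (hc a ha d hd) (he a ha) (he d hd)
    (fun b hb => hc a ha b (hBA hb)) (fun b hb => hc d hd b (hBA hb)) ?_)
  intro g hg w hw hgw
  have hgA : g ∈ A := by
    rcases hg with rfl | ⟨i, rfl⟩
    · exact hd
    · exact mul_mem ha (pow_mem hd i)
  have hgB : g ∉ B := by
    rcases hg with rfl | ⟨i, rfl⟩
    · exact hdB
    · intro h1
      apply haB
      have h2 := mul_mem (Subgroup.mem_sup_left h1 : a * d ^ i ∈ B ⊔ Subgroup.zpowers d)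
        (inv_mem (pow_mem (Subgroup.mem_sup_right (Subgroup.mem_zpowers d)) i))
      rwa [mul_inv_cancel_right] at h2
  by_contra hw0
  have hlt : B < B ⊔ Subgroup.zpowers g := lt_of_le_of_ne le_sup_left fun e =>
    hgB (e ▸ Subgroup.mem_sup_right (Subgroup.mem_zpowers g))
  refine (hB.not_prop_of_gt hlt) ⟨sup_le hBA (Subgroup.zpowers_le.2 hgA), fun e => hw0 ?_⟩
  have hmem : w ∈ fixS ρ (B ⊔ Subgroup.zpowers g) := fixS_inf_le B _ ⟨hw, fixS_zpowers hgw⟩
  rw [e] at hmem
  exact (Submodule.mem_bot k).1 hmem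

theorem sum_finrank_le_of_proj {ι : Type*} [Fintype ι] (P : ι → End k V) (W : ι → Submodule k V)
    (hid : ∀ i, ∀ w ∈ W i, P i w = w) (h0 : ∀ i j, i ≠ j → ∀ w ∈ W j, P i w = 0) :
    ∑ i, finrank k (W i) ≤ finrank k V := by
  classical
  rw [← Module.finrank_pi_fintype k]
  let f : ((i : ι) → W i) →ₗ[k] V := ∑ i, (W i).subtype ∘ₗ LinearMap.proj i
  refine LinearMap.finrank_le_finrank_of_injective (f := f) ?_
  rw [← LinearMap.ker_eq_bot, LinearMap.ker_eq_bot']
  intro w hw
  funext i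
  refine Subtype.ext ?_
  have h1 := congrArg (P i) hw
  simp only [f, LinearMap.sum_apply, LinearMap.comp_apply, LinearMap.proj_apply, Submodule.subtype_apply,
    map_sum, map_zero] at h1
  rw [Finset.sum_eq_single_of_mem i (Finset.mem_univ i) fun j _ hji => h0 i j hji.symm _ (w j).2,
    hid i _ (w i).2] at h1
  exact h1

/-- A cyclic normal subgroup. -/
theorem half_of_cyclic (h : Setup ρ x p) {q : ℕ} [Fact q.Prime] (a : G) (ha : orderOf a = q)
    [hA : (Subgroup.zpowers a).Normal] (hxa : ¬ Commute x a) :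
    2 * finrank k (End.eigenspace (ρ x) 1) < finrank k V := by
  classical
  set C := End.eigenspace (ρ x) 1 with hC
  have hfree : ∀ b ∈ Subgroup.zpowers a, b ≠ 1 → ∀ v : V, ρ b v = v → v = 0 := by
    intro b hb hb1 v hv
    haveI : Fact (Nat.card (Subgroup.zpowers a)).Prime := ⟨by rw [Nat.card_zpowers, ha]; exact Fact.out⟩
    have heq : Subgroup.zpowers b = Subgroup.zpowers a := by
      refine Subgroup.eq_of_le_of_card_ge (Subgroup.zpowers_le.2 hb) ?_
      rw [Nat.card_zpowers, Nat.card_zpowers, ha]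
      obtain ⟨i, rfl⟩ := hb
      have h1 : orderOf (a ^ i) ∣ q := ha ▸ orderOf_dvd_of_mem_zpowers ⟨i, rfl⟩
      rcases ((Nat.dvd_prime (Fact.out : q.Prime)).1 h1) with e | e
      · exact absurd (orderOf_eq_one_iff.1 e) hb1
      · exact e.ge
    have h0 := h.fixS_eq_bot (Subgroup.zpowers a) (fun e => hb1 (Subgroup.mem_bot.1 (e ▸ hb)))
    have hmem : v ∈ fixS ρ (Subgroup.zpowers a) := by
      rw [← heq]
      exact fixS_zpowers hv
    rw [h0] at hmem
    exact (Submodule.mem_bot k).1 hmem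
  have hxp : x ^ p = 1 := by rw [← h.ord]; exact pow_orderOf_eq_one x
  -- the conjugates of `a`
  have hconj : ∀ l : ℕ, ∃ e : ℕ, x ^ l * a * (x ^ l)⁻¹ = a ^ e := by
    intro l
    obtain ⟨n, hn⟩ := (isOfFinOrder_of_finite a).mem_powers_iff_mem_zpowers.2
      (hA.conj_mem a (Subgroup.mem_zpowers a) (x ^ l))
    exact ⟨n, hn.symm⟩
  choose e he using hconj
  have hdist : ∀ i j : Fin p, i ≠ j → a ^ e i ≠ a ^ e j := by
    intro i j hij hE
    rw [← he, ← he] at hE
    apply hxa
    have h1 : Commute (x ^ ((i : ℤ) - j)) a := by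
      rw [show x ^ ((i : ℤ) - j) = (x ^ (j : ℕ))⁻¹ * x ^ (i : ℕ) by group]
      show _ = _
      calc (x ^ (j : ℕ))⁻¹ * x ^ (i : ℕ) * a
          = (x ^ (j : ℕ))⁻¹ * (x ^ (i : ℕ) * a * (x ^ (i : ℕ))⁻¹) * x ^ (i : ℕ) := by group
        _ = (x ^ (j : ℕ))⁻¹ * (x ^ (j : ℕ) * a * (x ^ (j : ℕ))⁻¹) * x ^ (i : ℕ) := by rw [hE]
        _ = _ := by group
    have hne : ¬ (p : ℤ) ∣ ((i : ℤ) - j) := by
      intro hd
      refine hij (Fin.ext ?_)
      have := Int.eq_zero_of_abs_lt_dvd hd (abs_lt.2 ⟨by omega, by omega⟩)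
      omega
    obtain ⟨u, w, huw⟩ := (Prime.coprime_iff_not_dvd (Nat.prime_iff_prime_int.1 hp.out)).2 hne
    have h2 := h1.zpow_left w
    rw [← zpow_mul] at h2
    have h3 : x = x ^ (((i : ℤ) - j) * w) := by
      conv_lhs => rw [← zpow_one x, ← huw, zpow_add, mul_comm u, zpow_mul, zpow_natCast, hxp,
        one_zpow, one_mul, mul_comm w]
    exact h3 ▸ h2
  -- the Vandermonde matrix over polynomials in `ρ a`
  set U := ρ a with hU
  let v : Fin p → k[X] := fun l => X ^ e l
  let M : Matrix (Fin p) (Fin p) k[X] := Matrix.vandermonde v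
  have hdet : Function.Injective (aeval U M.det) := by
    rw [Matrix.det_vandermonde]
    refine Finset.prod_induction _ (fun f : k[X] => Function.Injective (aeval U f)) (fun S T hS hT => ?_)
      (by rw [map_one]; exact fun _ _ h => h) fun i _ => ?_
    · rw [map_mul, End.coe_mul]; exact hS.comp hT
    refine Finset.prod_induction _ (fun f : k[X] => Function.Injective (aeval U f)) (fun S T hS hT => ?_)
      (by rw [map_one]; exact fun _ _ h => h) fun j hj => ?_
    · rw [map_mul, End.coe_mul]; exact hS.comp hT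
    rw [← LinearMap.ker_eq_bot, LinearMap.ker_eq_bot']
    intro w hw
    simp only [v, map_sub, aeval_X_pow, LinearMap.sub_apply, sub_eq_zero, hU, ← map_pow] at hw
    refine hfree ((a ^ e i)⁻¹ * a ^ e j) (mul_mem (inv_mem (pow_mem (Subgroup.mem_zpowers a) _))
      (pow_mem (Subgroup.mem_zpowers a) _)) (fun h1 => ?_) w ?_
    · exact hdist i j (Finset.mem_Ioi.1 hj).ne (inv_mul_eq_one.1 h1)
    · rw [rho_mul, hw, ← rho_mul, inv_mul_cancel, rho_one]
  let Φ : (Fin p → C) →ₗ[k] V := ∑ j : Fin p, (U ^ (j : ℕ)) ∘ₗ C.subtype ∘ₗ LinearMap.proj j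
  have hinj : Function.Injective Φ := by
    rw [← LinearMap.ker_eq_bot, LinearMap.ker_eq_bot']
    intro w hw
    have hrow : ∀ l : Fin p, ∑ j : Fin p, aeval U (M l j) (w j : V) = 0 := by
      intro l
      have h1 := congrArg (ρ (x ^ (l : ℕ))) hw
      simp only [Φ, LinearMap.sum_apply, LinearMap.comp_apply, LinearMap.proj_apply,
        Submodule.subtype_apply, map_sum, map_zero] at h1
      rw [← h1]
      refine Finset.sum_congr rfl fun j _ => ?_
      simp only [M, v, Matrix.vandermonde_apply, ← pow_mul, aeval_X_pow, hU, ← map_pow]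
      have hfix : ∀ n : ℕ, ρ (x ^ n) (w j : V) = w j := by
        intro n
        induction n with
        | zero => rw [pow_zero, rho_one]
        | succ n ih =>
          have hx := End.mem_eigenspace_iff.1 (w j).2
          rw [one_smul] at hx
          rw [pow_succ, rho_mul, hx, ih]
      rw [← rho_mul, show x ^ (l : ℕ) * a ^ (j : ℕ) = a ^ (e l * j) * x ^ (l : ℕ) by
        rw [pow_mul, ← he, conj_pow]; group, rho_mul, hfix]
    funext i
    refine Subtype.ext (hdet ?_)
    show aeval U M.det (w i : V) = aeval U M.det 0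
    rw [map_zero]
    have h1 : ∑ l, aeval U (M.adjugate i l) (∑ j, aeval U (M l j) (w j : V)) = 0 :=
      Finset.sum_eq_zero fun l _ => by rw [hrow l, map_zero]
    rw [← h1]
    simp only [map_sum, ← End.mul_apply, ← map_mul]
    rw [Finset.sum_comm]
    simp only [← LinearMap.sum_apply, ← map_sum]
    simp only [show ∀ j, ∑ l, M.adjugate i l * M l j = (M.adjugate * M) i j from fun j => rfl,
      Matrix.adjugate_mul, Matrix.smul_apply, Matrix.one_apply, smul_eq_mul, mul_ite, mul_one, mul_zero]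
    rw [Finset.sum_eq_single_of_mem i (Finset.mem_univ i) fun j _ hji => by
      rw [if_neg hji.symm, map_zero]; rfl, if_pos rfl]
  refine half_of_le_two h.four_lt h.finrank_pos ?_
  have h1 := LinearMap.finrank_le_finrank_of_injective hinj
  rw [Module.finrank_pi_fintype, Finset.sum_const, Finset.card_univ, Fintype.card_fin, smul_eq_mul] at h1
  omega

/-- A non-central elementary abelian normal subgroup. -/
theorem half_of_abelian (h : Setup ρ x p) [Group.IsSolvable G] (A : Subgroup G) [hA : A.Normal]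
    {q : ℕ} [hq : Fact q.Prime] (hc : ∀ a ∈ A, ∀ b ∈ A, a * b = b * a) (he : ∀ a ∈ A, a ^ q = 1)
    (hx : ∃ a ∈ A, ¬ Commute x a) : 2 * finrank k (End.eigenspace (ρ x) 1) < finrank k V := by
  classical
  haveI := h.nt
  have hA1 : A ≠ ⊥ := by
    rintro rfl
    obtain ⟨a, ha, hax⟩ := hx
    exact hax (by rw [Subgroup.mem_bot.1 ha]; exact Commute.one_right x)
  have hA0 := h.fixS_eq_bot A hA1
  have hqk : (q : k) ≠ 0 := by
    intro e
    haveI : CharP k q := (CharP.charP_iff_prime_eq_zero hq.out).2 e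
    exact exists_fixed_of_char A hc he hA0
  obtain ⟨B₀, hB₀A, hB₀ne, hB₀f, hB₀max⟩ := exists_hyperplane A hqk hc he hA0
  by_cases hB₀1 : B₀ = ⊥
  · -- `A` is cyclic
    obtain ⟨a, ha, hax⟩ := hx
    have ha1 : a ≠ 1 := fun e => hax (e ▸ Commute.one_right x)
    have hAa : Subgroup.zpowers a = A := by
      have := hB₀max a ha (by rw [hB₀1, Subgroup.mem_bot]; exact ha1)
      rwa [hB₀1, bot_sup_eq] at this
    haveI : (Subgroup.zpowers a).Normal := hAa ▸ hA
    exact half_of_cyclic h a (orderOf_eq_prime (he a ha) ha1) hax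
  letI act : MulAction G (Subgroup G) := MulAction.compHom (Subgroup G) (MulAut.conj : G →* MulAut G)
  have hsmul : ∀ (g : G) (B : Subgroup G), g • B = MulAut.conj g • B := fun _ _ => rfl
  have hAc : ∀ g : G, MulAut.conj g • A = A := fun g => by
    refine Subgroup.eq_of_le_of_card_ge ?_ (Nat.card_congr (Subgroup.equivSMul _ A).toEquiv).le
    rintro _ ⟨c, hc', rfl⟩
    exact hA.conj_mem c hc' g
  let ι := MulAction.orbit G B₀
  haveI : Fintype ι := Fintype.ofFinite _
  have hιA : ∀ B : ι, B.1 ≤ A ∧ B.1 ≠ A ∧ (∀ d ∈ A, d ∉ B.1 → B.1 ⊔ Subgroup.zpowers d = A) := by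
    rintro ⟨_, g, rfl⟩
    simp only [hsmul]
    refine ⟨?_, ?_, fun d hd hdB => ?_⟩
    · rw [← hAc g]; exact Subgroup.pointwise_smul_le_pointwise_smul_iff.2 hB₀A
    · intro e
      rw [← hAc g] at e
      exact hB₀ne (smul_left_cancel _ e)
    · have hd' : g⁻¹ * d * g ∈ A := by simpa using hA.conj_mem d hd g⁻¹
      have hdB' : g⁻¹ * d * g ∉ B₀ := fun h1 => hdB ⟨_, h1, by simp [mul_assoc]⟩
      have := congrArg (fun S : Subgroup G => MulAut.conj g • S) (hB₀max _ hd' hdB')
      simp only [Subgroup.smul_sup, hAc] at this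
      rw [← this]
      congr 1
      show Subgroup.zpowers d = (Subgroup.zpowers _).map (MulAut.conj g).toMonoidHom
      rw [MonoidHom.map_zpowers]
      simp [mul_assoc]
  have hcardB : ∀ B : ι, Nat.card B.1 = Nat.card B₀ := by
    rintro ⟨_, g, rfl⟩
    exact (Nat.card_congr (Subgroup.equivSMul (MulAut.conj g) B₀).toEquiv).symm
  have hsup : ∀ B B' : ι, B ≠ B' → A ≤ B.1 ⊔ B'.1 := by
    intro B B' hne
    by_cases hle : B'.1 ≤ B.1
    · exact absurd (Subtype.ext (Subgroup.eq_of_le_of_card_ge hle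
        (by rw [hcardB, hcardB])).symm) hne
    · obtain ⟨d, hd, hdB⟩ := SetLike.not_le_iff_exists.1 hle
      rw [← (hιA B).2.2 d ((hιA B').1 hd) hdB]
      exact sup_le le_sup_left (Subgroup.zpowers_le.2 (Subgroup.mem_sup_right hd))
  letI hft : ∀ B : Subgroup G, Fintype B := fun B => Fintype.ofFinite B
  have hck : ∀ B : ι, (Nat.card B.1 : k) ≠ 0 := by
    intro B
    have hp' : IsPGroup q B.1 := fun b => ⟨1, Subtype.ext (by simpa using he b ((hιA B).1 b.2))⟩
    obtain ⟨n, hn⟩ := IsPGroup.iff_card.1 hp'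
    rw [hn, Nat.cast_pow]
    exact pow_ne_zero n hqk
  -- averaging projections
  let P : ι → End k V := fun B => (Nat.card B.1 : k)⁻¹ • ∑ b : B.1, ρ (b : G)
  have hPapp : ∀ B v, P B v = (Nat.card B.1 : k)⁻¹ • ∑ b : B.1, ρ (b : G) v := fun B v => by
    simp only [P, LinearMap.smul_apply, LinearMap.sum_apply]
  have hPmem : ∀ B v, P B v ∈ fixS ρ B.1 := by
    intro B v b hb
    rw [hPapp, map_smul, map_sum]
    congr 1
    refine Fintype.sum_equiv (Equiv.mulLeft (⟨b, hb⟩ : B.1)) _ _ fun c => ?_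
    rw [← rho_mul]
    rfl
  have hPid : ∀ B, ∀ w ∈ fixS ρ B.1, P B w = w := by
    intro B w hw
    rw [hPapp, Finset.sum_congr rfl (fun (b : B.1) _ => hw (b : G) b.2), Finset.sum_const, Finset.card_univ,
      ← Nat.card_eq_fintype_card, ← Nat.cast_smul_eq_nsmul k, smul_smul, inv_mul_cancel₀ (hck B), one_smul]
  have hP0 : ∀ B B', B ≠ B' → ∀ w ∈ fixS ρ B'.1, P B w = 0 := by
    intro B B' hne w hw
    rw [← Submodule.mem_bot k, ← hA0]
    refine fixS_mono (hsup B B' hne) (fixS_inf_le _ _ ⟨hPmem B w, fun b hb => ?_⟩)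
    rw [hPapp, map_smul, map_sum]
    congr 1
    refine Finset.sum_congr rfl fun c _ => ?_
    rw [← rho_mul, hc b ((hιA B').1 hb) c ((hιA B).1 c.2), rho_mul, hw b hb]
  have hspan : (⨆ B : ι, fixS ρ B.1) = ⊤ := by
    refine (h.irr _ fun g v hv => ?_).resolve_left fun e => hB₀f ?_
    · refine Submodule.iSup_induction _ (motive := fun u => ρ g u ∈ ⨆ B : ι, fixS ρ B.1) hv
        (fun B u hu => ?_) (by simp) (fun u w hu hw => by rw [map_add]; exact add_mem hu hw)
      have h1 := fixS_map (g := g) hu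
      exact Submodule.mem_iSup_of_mem (g • B) h1
    · exact le_bot_iff.1 ((le_iSup (fun B : ι => fixS ρ B.1) ⟨B₀, MulAction.mem_orbit_self B₀⟩).trans e.le)
  have hsum : ∀ v, ∑ B : ι, P B v = v := by
    intro v
    refine Submodule.iSup_induction _ (motive := fun u => ∑ B : ι, P B u = u)
      (hspan ▸ Submodule.mem_top : v ∈ ⨆ B : ι, fixS ρ B.1) (fun B u hu => ?_) (by simp)
      (fun u w hu hw => ?_)
    · rw [Finset.sum_eq_single_of_mem B (Finset.mem_univ B) fun B' _ hne => hP0 B' B hne u hu, hPid B u hu]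
    · simp only [map_add, Finset.sum_add_distrib, hu, hw]
  have heq : ∀ B v, P (MulAction.toPerm x B) (ρ x v) = ρ x (P B v) := by
    intro B v
    rw [hPapp, hPapp, map_smul, map_sum]
    congr 1
    · rw [hcardB, hcardB]
    symm
    refine Fintype.sum_equiv (Subgroup.equivSMul (MulAut.conj x) B.1).toEquiv _ _ fun c => ?_
    show ρ x (ρ (c : G) v) = ρ (x * c * x⁻¹) (ρ x v)
    rw [← rho_mul, ← rho_mul, inv_mul_cancel_right]
  set b := finrank k (fixS ρ B₀) with hb
  have hdim : ∀ B : ι, finrank k (fixS ρ B.1) = b := by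
    rintro ⟨_, g, rfl⟩
    refine le_antisymm ?_ ?_
    · refine le_trans (le_of_eq (Submodule.equivMapOfInjective _ (rho_injective (ρ := ρ) g⁻¹) _).finrank_eq)
        (Submodule.finrank_mono ?_)
      rintro _ ⟨v, hv, rfl⟩
      have := fixS_map (g := g⁻¹) hv
      change _ ∈ fixS ρ (MulAut.conj g⁻¹ • (MulAut.conj g • B₀)) at this
      rwa [← mul_smul, ← map_mul, inv_mul_cancel, map_one, one_smul] at this
    · refine le_trans (le_of_eq (Submodule.equivMapOfInjective _ (rho_injective (ρ := ρ) g) _).finrank_eq)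
        (Submodule.finrank_mono ?_)
      rintro _ ⟨v, hv, rfl⟩
      exact fixS_map hv
  have hxp : x ^ p = 1 := by rw [← h.ord]; exact pow_orderOf_eq_one x
  have hσ : (MulAction.toPerm x : Equiv.Perm ι) ^ p = 1 := by
    rw [← MulAction.toPermHom_apply, ← map_pow, hxp, map_one]
  have hfix := fixed_decomp_le (p := p) (MulAction.toPerm x) hσ (ρ x) P hsum heq
    (fun B => fixS ρ B.1) hPmem (fun B => (hdim B).le) (End.eigenspace (ρ x) 1)
    (fun v hv => by rw [End.mem_eigenspace_iff.1 hv, one_smul])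
  have htot : Nat.card ι * b ≤ finrank k V := by
    refine le_trans (le_of_eq ?_) (sum_finrank_le_of_proj P _ hPid hP0)
    rw [Finset.sum_congr rfl fun B _ => hdim B, Finset.sum_const, Finset.card_univ, smul_eq_mul,
      Nat.card_eq_fintype_card]
  haveI : Nontrivial ι := by
    by_contra hnt
    rw [not_nontrivial_iff_subsingleton] at hnt
    have hn : B₀.Normal := by
      refine ⟨fun n hn g => ?_⟩
      have e : g • B₀ = B₀ := congrArg Subtype.val
        (Subsingleton.elim (⟨g • B₀, g, rfl⟩ : ι) ⟨B₀, MulAction.mem_orbit_self B₀⟩)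
      rw [← e]
      exact ⟨n, hn, rfl⟩
    exact hB₀f (haveI := hn; h.fixS_eq_bot B₀ hB₀1)
  have hratio := fixed_ratio (p := p) x h.ord h.gen (ι := ι)
  refine half_of_le_two h.four_lt h.finrank_pos ?_
  set F := Nat.card {B : ι // MulAction.toPerm x B = B}
  have hF : p * F ≤ Nat.card ι := hratio
  have h4 : p * (p * finrank k (End.eigenspace (ρ x) 1)) ≤ p * (2 * finrank k V) := by
    calc p * (p * finrank k (End.eigenspace (ρ x) 1)) ≤ p * ((Nat.card ι + (p - 1) * F) * b) :=
          Nat.mul_le_mul_left p hfix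
      _ = (p * Nat.card ι + (p - 1) * (p * F)) * b := by ring
      _ ≤ (p * Nat.card ι + p * Nat.card ι) * b :=
          Nat.mul_le_mul_right b (Nat.add_le_add_left (Nat.mul_le_mul (Nat.sub_le p 1) hF) _)
      _ = p * (2 * (Nat.card ι * b)) := by ring
      _ ≤ _ := Nat.mul_le_mul_left p (Nat.mul_le_mul_left 2 htot)
  exact Nat.le_of_mul_le_mul_left h4 hp.out.pos

end CfsgLib.PGroup.FixedHalf
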