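import Cfsg.Agent.Lib.PGroup.FixedHalf.Counting
import Mathlib.RingTheory.Nilpotent.Basic
import Mathlib.LinearAlgebra.Vandermonde
import Mathlib.Algebra.Polynomial.AlgebraMap
import Mathlib.Algebra.CharP.Algebra
import Mathlib.Algebra.CharP.Lemmas

/-!
# Fixed points: common tools and the case of a commutator in the center
-/

set_option autoImplicit false
set_option linter.style.haveILetI false
set_option linter.unusedSectionVars false

namespace CfsgLib.PGroup.FixedHalf

open Module

universe u

variable {G : Type u} [Group G] [Finite G] {k : Type*} [Field k] {V : Type*} [AddCommGroup V]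
  [Module k V] [FiniteDimensional k V] {p : ℕ} [hp : Fact p.Prime]

/-- The standing hypotheses. -/
structure Setup (ρ : G →* End k V) (x : G) (p : ℕ) : Prop where
  inj : Function.Injective ρ
  irr : ∀ W : Submodule k V, (∀ g, ∀ v ∈ W, ρ g v ∈ W) → W = ⊥ ∨ W = ⊤
  nt : Nontrivial V
  scal : ∀ z ∈ Subgroup.center G, ∃ s : k, ρ z = s • 1
  ord : orderOf x = p
  gen : Subgroup.normalClosure {x} = ⊤
  big : 3 < p

variable {ρ : G →* End k V} {x : G}

theorem rho_mul (g h : G) (v : V) : ρ (g * h) v = ρ g (ρ h v) := by rw [map_mul, End.mul_apply]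

theorem rho_one (v : V) : ρ 1 v = v := by rw [map_one, End.one_apply]

theorem rho_injective (g : G) : Function.Injective (ρ g) := fun v w h => by
  have := congrArg (ρ g⁻¹) h
  rwa [← rho_mul, ← rho_mul, inv_mul_cancel, rho_one, rho_one] at this

theorem Setup.finrank_pos (h : Setup ρ x p) : 0 < finrank k V := by
  haveI := h.nt
  exact Module.finrank_pos

theorem Setup.scal_inj (h : Setup ρ x p) {z : G} {s : k} (hz : ρ z = s • 1) (hs : s = 1) : z = 1 :=
  h.inj (by rw [hz, hs, one_smul, map_one])

theorem Setup.scal_ne (h : Setup ρ x p) {z : G} (hz : z ∈ Subgroup.center G) (h1 : z ≠ 1) :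
    ∃ s : k, ρ z = s • 1 ∧ s ≠ 1 := by
  obtain ⟨s, hs⟩ := h.scal z hz
  exact ⟨s, hs, fun e => h1 (h.scal_inj hs e)⟩

theorem scal_pow (hV : Nontrivial V) {z : G} {s : k} (hz : ρ z = s • 1) {n : ℕ} (hn : z ^ n = 1) :
    s ^ n = 1 := by
  haveI := hV
  have h1 : ρ (z ^ n) = (s ^ n) • 1 := by rw [map_pow, hz, smul_pow, one_pow]
  rw [hn, map_one] at h1
  obtain ⟨v, hv⟩ := exists_ne (0 : V)
  have h2 : v = (s ^ n) • v := by
    have := LinearMap.congr_fun h1 v
    simpa using this
  by_contra hne
  have h3 : (s ^ n - 1) • v = 0 := by rw [sub_smul, one_smul, ← h2, sub_self]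
  rcases smul_eq_zero.1 h3 with h4 | h4
  · exact hne (sub_eq_zero.1 h4)
  · exact hv h4

theorem scal_commute {z : G} {s : k} (hz : ρ z = s • 1) (v : V) : ρ z v = s • v := by
  rw [hz]; simp

theorem half_of_le_two {a D p : ℕ} (hp : 4 < p) (hD : 0 < D) (h : p * a ≤ 2 * D) : 2 * a < D := by
  by_contra hcon
  push Not at hcon
  have h1 : 5 * a ≤ p * a := Nat.mul_le_mul_right a hp
  omega

theorem Setup.four_lt (h : Setup ρ x p) [hp : Fact p.Prime] : 4 < p := by
  have := h.big
  rcases eq_or_lt_of_le (Nat.succ_le_of_lt this) with e | e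
  · exfalso
    have hpr := hp.out
    rw [← e] at hpr
    exact (by decide : ¬ Nat.Prime 4) hpr
  · exact e

/-- The case of a nontrivial central commutator with `x`. -/
theorem half_of_central_commutator (h : Setup ρ x p) [Fact p.Prime] {m : G}
    (hc : x * m * x⁻¹ * m⁻¹ ∈ Subgroup.center G) (hne : x * m * x⁻¹ * m⁻¹ ≠ 1) :
    2 * finrank k (End.eigenspace (ρ x) 1) < finrank k V := by
  set c := x * m * x⁻¹ * m⁻¹ with hcdef
  obtain ⟨s, hs, hs1⟩ := h.scal_ne hc hne
  have hcm : ∀ n : ℕ, x ^ n * m = c ^ n * m * x ^ n := by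
    intro n
    induction n with
    | zero => simp
    | succ n ih =>
      rw [pow_succ' x, mul_assoc x, ih, ← mul_assoc x, ← mul_assoc x,
        Subgroup.mem_center_iff.1 (pow_mem hc n) x, mul_assoc (c ^ n) x m,
        show x * m = c * m * x by rw [hcdef]; group, pow_succ c]
      group
  have hcp : c ^ p = 1 := by
    have := hcm p
    rw [← h.ord, pow_orderOf_eq_one, one_mul, mul_one] at this
    rw [← h.ord]
    exact mul_right_cancel (b := m) (by rw [one_mul, ← this])
  refine half_of_le_two h.four_lt h.finrank_pos ?_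
  have h1 := shift_le (ρ x) (ρ m) ⊤ (scal_pow h.nt hs hcp) hs1 (rho_injective m)
    (fun _ _ => Submodule.mem_top) (fun v _ => by
      rw [← rho_mul, show x * m = c * m * x by rw [hcdef]; group, rho_mul, rho_mul, scal_commute hs])
  rw [top_inf_eq, finrank_top] at h1
  omega

end CfsgLib.PGroup.FixedHalf
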