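import Mathlib.GroupTheory.PGroup
import Mathlib.GroupTheory.Sylow
import Mathlib.Order.Atoms.Finite
import Mathlib.RingTheory.Int.Basic
import Mathlib.GroupTheory.GroupAction.Quotient
import Mathlib.GroupTheory.Solvable
import Mathlib.LinearAlgebra.Eigenspace.Basic
import Mathlib.LinearAlgebra.Dimension.Finite
import Mathlib.LinearAlgebra.FiniteDimensional.Lemmas
import Mathlib.GroupTheory.Commutator.Basic

/-!
# Counting lemmas for fixed points of elements of prime order
-/

set_option autoImplicit false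
set_option linter.style.haveILetI false
set_option linter.unusedSectionVars false

namespace CfsgLib.PGroup.FixedHalf

open Module

universe u v

section Linear

variable {k : Type*} [Field k] {V : Type*} [AddCommGroup V] [Module k V] [FiniteDimensional k V]

theorem sum_finrank_le {ι : Type*} [Fintype ι] (W : ι → Submodule k V) (hW : iSupIndep W)
    (X : Submodule k V) (hX : ∀ i, W i ≤ X) :
    ∑ i, finrank k (W i) ≤ finrank k X := by
  classical
  suffices h : ∀ S : Finset ι, ∑ i ∈ S, finrank k (W i) ≤ finrank k (S.sup W : Submodule k V) from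
    (h Finset.univ).trans (Submodule.finrank_mono (Finset.sup_le fun i _ => hX i))
  intro S
  induction S using Finset.induction_on with
  | empty => simp
  | @insert i S hi ih =>
    rw [Finset.sum_insert hi, Finset.sup_insert]
    have hd : Disjoint (W i) (S.sup W) := by
      refine (hW i).mono_right (Finset.sup_le fun j hj => ?_)
      exact le_iSup₂_of_le j (fun e => hi (e ▸ hj)) le_rfl
    have h2 := Submodule.finrank_sup_add_finrank_inf_eq (W i) (S.sup W)
    rw [disjoint_iff.1 hd, finrank_bot, add_zero] at h2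
    omega

/-- Eigenspaces of `T` inside `W` for distinct values. -/
theorem sum_eigen_le {ι : Type*} [Fintype ι] (T : End k V) (lam : ι → k)
    (hlam : Function.Injective lam) (W : Submodule k V) :
    ∑ i, finrank k ((W ⊓ End.eigenspace T (lam i) : Submodule k V)) ≤ finrank k W :=
  sum_finrank_le _ (((End.eigenspaces_iSupIndep T).comp hlam).mono fun _ => inf_le_right) _
    fun _ => inf_le_left

theorem pow_injective_of_order {p : ℕ} [hp : Fact p.Prime] {s : k} (hs : s ^ p = 1) (h1 : s ≠ 1) :
    Function.Injective fun i : Fin p => s ^ (i : ℕ) := by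
  intro i j h
  have ho : orderOf s = p := orderOf_eq_prime hs h1
  exact Fin.ext (pow_injOn_Iio_orderOf (Set.mem_Iio.2 (ho.symm ▸ i.2))
    (Set.mem_Iio.2 (ho.symm ▸ j.2)) h)

/-- An injective map rotating the eigenspaces of `T` inside `W`. -/
theorem shift_le {p : ℕ} [hp : Fact p.Prime] (T U : End k V) (W : Submodule k V) {s : k}
    (hs : s ^ p = 1) (h1 : s ≠ 1) (hU : Function.Injective U) (hUW : ∀ v ∈ W, U v ∈ W)
    (hTU : ∀ v ∈ W, T (U v) = s • U (T v)) :
    p * finrank k (W ⊓ End.eigenspace T 1 : Submodule k V) ≤ finrank k W := by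
  refine le_trans ?_ (sum_eigen_le T _ (pow_injective_of_order hs h1) W)
  refine le_trans (le_of_eq ?_) (Finset.sum_le_sum
    (f := fun _ : Fin p => finrank k (W ⊓ End.eigenspace T 1 : Submodule k V)) fun i _ => ?_)
  · rw [Finset.sum_const, Finset.card_univ, Fintype.card_fin, smul_eq_mul]
  have hmem : ∀ n : ℕ, ∀ v ∈ W ⊓ End.eigenspace T 1, (U ^ n) v ∈ W ⊓ End.eigenspace T (s ^ n) := by
    intro n
    induction n with
    | zero => intro v hv; simpa using hv
    | succ n ih =>
      intro v hv
      obtain ⟨h2, h3⟩ := ih v hv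
      rw [pow_succ' U, End.mul_apply]
      refine ⟨hUW _ h2, End.mem_eigenspace_iff.2 ?_⟩
      rw [hTU _ h2, End.mem_eigenspace_iff.1 h3, map_smul, smul_smul, mul_comm, pow_succ]
  have hinj : Function.Injective (U ^ (i : ℕ)) := by
    rw [End.coe_pow]
    exact hU.iterate _
  calc finrank k (W ⊓ End.eigenspace T 1 : Submodule k V)
      = finrank k ((W ⊓ End.eigenspace T 1).map (U ^ (i : ℕ))) :=
        (Submodule.equivMapOfInjective _ hinj _).finrank_eq
    _ ≤ _ := Submodule.finrank_mono (Submodule.map_le_iff_le_comap.2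
        (show _ ≤ (W ⊓ End.eigenspace T (s ^ (i : ℕ))).comap (U ^ (i : ℕ)) from fun v hv => hmem i v hv))

/-- A subspace stable under a resolution of the identity. -/
theorem finrank_le_sum {ι : Type*} [Fintype ι] (P : ι → End k V) (hsum : ∀ v, ∑ i, P i v = v)
    (X : Submodule k V) (W : ι → Submodule k V) (hP : ∀ i, ∀ v ∈ X, P i v ∈ W i) :
    finrank k X ≤ ∑ i, finrank k (W i) := by
  let f : X →ₗ[k] ((i : ι) → W i) :=
    LinearMap.pi fun i => ((P i).domRestrict X).codRestrict (W i) fun v => hP i v v.2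
  have hinj : Function.Injective f := by
    intro v w h
    refine Subtype.ext ?_
    rw [← hsum v, ← hsum w]
    exact Finset.sum_congr rfl fun i _ => congrArg Subtype.val (congrFun h i)
  exact (LinearMap.finrank_le_finrank_of_injective hinj).trans (le_of_eq (Module.finrank_pi_fintype k))

/-- Fixed points of a map of order `p` permuting a decomposition. -/
theorem fixed_decomp_le {p : ℕ} [hp : Fact p.Prime] {ι : Type*} [Fintype ι] (σ : Equiv.Perm ι)
    (hσ : σ ^ p = 1) (T : End k V) (P : ι → End k V) (hsum : ∀ v, ∑ i, P i v = v)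
    (heq : ∀ i v, P (σ i) (T v) = T (P i v)) (W : ι → Submodule k V) (hP : ∀ i v, P i v ∈ W i)
    {b : ℕ} (hb : ∀ i, finrank k (W i) ≤ b) (X : Submodule k V) (hX : ∀ v ∈ X, T v = v) :
    p * finrank k X ≤ (Nat.card ι + (p - 1) * Nat.card {i // σ i = i}) * b := by
  classical
  rcases eq_or_ne σ 1 with rfl | hne
  · have h1 := finrank_le_sum P hsum X W fun i v _ => hP i v
    have h2 : ∑ i, finrank k (W i) ≤ Nat.card ι * b := by
      rw [Nat.card_eq_fintype_card, ← Finset.card_univ, ← smul_eq_mul]
      exact Finset.sum_le_card_nsmul _ _ _ fun i _ => hb i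
    have hcard : Nat.card {i // (1 : Equiv.Perm ι) i = i} = Nat.card ι :=
      Nat.card_congr (Equiv.subtypeUnivEquiv fun i => rfl)
    have h3 : p * finrank k X ≤ p * (Nat.card ι * b) := Nat.mul_le_mul_left _ (h1.trans h2)
    refine h3.trans (le_of_eq ?_)
    rw [hcard]
    obtain ⟨m, rfl⟩ : ∃ m, p = m + 1 := ⟨p - 1, (Nat.succ_pred_eq_of_pos hp.out.pos).symm⟩
    simp only [Nat.add_sub_cancel]
    ring
  let H := Subgroup.zpowers σ
  let Ω := Quotient (MulAction.orbitRel H ι)
  let f : X →ₗ[k] ((w : Ω) → W w.out) :=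
    LinearMap.pi fun w => ((P w.out).domRestrict X).codRestrict (W w.out) fun v => hP _ _
  have hinj : Function.Injective f := by
    rw [← LinearMap.ker_eq_bot, LinearMap.ker_eq_bot']
    intro v hv
    have hz : ∀ n : ℕ, ∀ i, P i v.1 = 0 → P ((σ ^ n) i) v.1 = 0 := by
      intro n
      induction n with
      | zero => intro i hi; simpa using hi
      | succ n ih =>
        intro i hi
        rw [pow_succ', Equiv.Perm.mul_apply]
        conv_lhs => rw [← hX v.1 v.2]
        rw [heq, ih i hi, map_zero]
    refine Subtype.ext ?_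
    rw [← hsum v.1]
    refine Finset.sum_eq_zero fun i _ => ?_
    have h0 : P (Quotient.mk'' i : Ω).out v.1 = 0 := congrArg Subtype.val (congrFun hv (Quotient.mk'' i))
    obtain ⟨⟨g, hg⟩, he⟩ : i ∈ MulAction.orbit H (Quotient.mk'' i : Ω).out :=
      MulAction.orbitRel_apply.1 (Quotient.exact (Quotient.out_eq (Quotient.mk'' i : Ω)).symm)
    obtain ⟨n, hn⟩ : ∃ n : ℕ, σ ^ n = g := by
      obtain ⟨n, hn⟩ := (isOfFinOrder_of_finite σ).mem_powers_iff_mem_zpowers.2 hg
      exact ⟨n, hn⟩
    have e : (σ ^ n) (Quotient.mk'' i : Ω).out = i := by rw [hn]; exact he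
    rw [← e]
    exact hz n _ h0
  have h1 : finrank k X ≤ Fintype.card Ω * b := by
    refine (LinearMap.finrank_le_finrank_of_injective hinj).trans ?_
    rw [Module.finrank_pi_fintype, ← Finset.card_univ, ← smul_eq_mul]
    exact Finset.sum_le_card_nsmul _ _ _ fun w _ => hb _
  have hord : orderOf σ = p := orderOf_eq_prime hσ hne
  have hcardH : Fintype.card H = p := by rw [Fintype.card_zpowers, hord]
  -- Burnside
  have hB := MulAction.sum_card_fixedBy_eq_card_orbits_mul_card_group H ι
  have hfix : ∀ g : H, g ≠ 1 → Fintype.card (MulAction.fixedBy ι g) = Fintype.card {i // σ i = i} := by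
    intro g hg
    refine Fintype.card_congr (Equiv.subtypeEquivRight fun i => ?_)
    rw [MulAction.mem_fixedBy]
    obtain ⟨g, z, rfl⟩ := g
    show (σ ^ z) i = i ↔ σ i = i
    have hpz : ¬ (p : ℤ) ∣ z := fun h => hg (Subtype.ext (by
      show σ ^ z = 1
      rw [← orderOf_dvd_iff_zpow_eq_one, hord]; exact h))
    constructor
    · intro h
      obtain ⟨u, w, huw⟩ := Prime.coprime_iff_not_dvd (Nat.prime_iff_prime_int.1 hp.out) |>.2 hpz
      have h2 : σ = (σ ^ z) ^ w := by
        rw [← zpow_mul]
        conv_lhs => rw [← zpow_one σ, ← huw, zpow_add, mul_comm u, zpow_mul, zpow_natCast, hσ, one_zpow,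
          one_mul, mul_comm w]
      rw [h2]
      exact (Equiv.Perm.zpow_apply_eq_self_of_apply_eq_self h w)
    · intro h
      exact Equiv.Perm.zpow_apply_eq_self_of_apply_eq_self h z
  rw [← Finset.sum_erase_add _ _ (Finset.mem_univ (1 : H)),
    Finset.sum_congr rfl fun g hg => hfix g (Finset.ne_of_mem_erase hg), Finset.sum_const,
    smul_eq_mul, Finset.card_erase_of_mem (Finset.mem_univ _), Finset.card_univ, hcardH] at hB
  have hone : Fintype.card (MulAction.fixedBy ι (1 : H)) = Fintype.card ι :=
    Fintype.card_congr (Equiv.subtypeUnivEquiv fun i => one_smul H i)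
  rw [hone] at hB
  calc p * finrank k X ≤ p * (Fintype.card Ω * b) := Nat.mul_le_mul_left _ h1
    _ = _ := by
      rw [← mul_assoc, mul_comm p, ← hB, Nat.card_eq_fintype_card, Nat.card_eq_fintype_card]
      ring

end Linear

/-! ### Fixed point ratio in solvable transitive groups -/

open Subgroup
open scoped commutatorElement

variable {G : Type u} [Group G] [Finite G] [Group.IsSolvable G] {p : ℕ} [hp : Fact p.Prime]

omit [Group.IsSolvable G] in
theorem index_eq_relIndex_of_sup {N H : Subgroup G} (hN : N.Normal) (htop : N ⊔ H = ⊤) :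
    H.index = H.relIndex N := by
  haveI := hN
  have h1 : N.index = N.relIndex H := by
    rw [← Subgroup.relIndex_sup_left, htop, relIndex_top_right]
  have h2 := relIndex_mul_index (inf_le_right : N ⊓ H ≤ H)
  have h3 := relIndex_mul_index (inf_le_left : N ⊓ H ≤ N)
  rw [inf_relIndex_right] at h2
  rw [inf_relIndex_left] at h3
  rw [← h3, h1, mul_comm (H.relIndex N)] at h2
  exact Nat.eq_of_mul_eq_mul_left (Nat.pos_of_ne_zero (h1 ▸ index_ne_zero_of_finite)) h2

theorem ratio_coset (x : G) (hx : orderOf x = p) (hgen : normalClosure {x} = ⊤) (H : Subgroup G)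
    (hH : IsCoatom H) : p * Nat.card {c : G ⧸ H // x • c = c} ≤ Nat.card (G ⧸ H) := by
  classical
  set K := H.normalCore with hK
  have hKH : K ≤ H := normalCore_le H
  haveI : K.Normal := normalCore_normal H
  -- a minimal normal subgroup above `K`
  obtain ⟨N, hNmin⟩ := exists_minimal_of_wellFoundedLT
    (fun N : Subgroup G => N.Normal ∧ K < N) ⟨⊤, inferInstance, lt_of_le_of_lt hKH (lt_top_iff_ne_top.2 hH.1)⟩
  obtain ⟨hNn, hKN⟩ := hNmin.prop
  haveI := hNn
  have hmin : ∀ M : Subgroup G, M.Normal → K ≤ M → M ≤ N → M = K ∨ M = N := by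
    intro M hM hKM hMN
    rcases hKM.eq_or_lt with e | hlt
    · exact Or.inl e.symm
    · exact Or.inr (hNmin.eq_of_le ⟨hM, hlt⟩ hMN)
  -- `N/K` is abelian
  have hcomm : ⁅N, N⁆ ≤ K := by
    rcases hmin (⁅N, N⁆ ⊔ K) (Subgroup.sup_normal _ _) le_sup_right
      (sup_le (Subgroup.commutator_le_left N N) hKN.le) with e | e
    · exact e ▸ le_sup_left
    · exfalso
      have hall : ∀ j : ℕ, N ≤ derivedSeries G j ⊔ K := by
        intro j
        induction j with
        | zero => rw [derivedSeries_zero]; exact le_sup_of_le_left le_top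
        | succ j ih =>
          rw [← e]
          refine sup_le ?_ le_sup_right
          refine (commutator_mono ih ih).trans ?_
          rw [commutator_le]
          intro a ha b hb
          haveI : (derivedSeries G (j + 1)).Normal := derivedSeries_normal G _
          set M := derivedSeries G (j + 1) ⊔ K
          haveI : M.Normal := Subgroup.sup_normal _ _
          rw [← QuotientGroup.eq_one_iff]
          have key : ∀ u ∈ derivedSeries G j ⊔ K, ∃ w ∈ derivedSeries G j,
              (u : G ⧸ M) = (w : G ⧸ M) := by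
            intro u hu
            rw [← SetLike.mem_coe, Subgroup.mul_normal] at hu
            obtain ⟨w, hw, t, ht, rfl⟩ := hu
            refine ⟨w, hw, ?_⟩
            rw [QuotientGroup.mk_mul, (QuotientGroup.eq_one_iff t).2 (mem_sup_right ht), mul_one]
          obtain ⟨a', ha', ea⟩ := key a ha
          obtain ⟨b', hb', eb⟩ := key b hb
          rw [commutatorElement_def, QuotientGroup.mk_mul, QuotientGroup.mk_mul, QuotientGroup.mk_mul,
            QuotientGroup.mk_inv, QuotientGroup.mk_inv, ea, eb, ← QuotientGroup.mk_inv,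
            ← QuotientGroup.mk_inv, ← QuotientGroup.mk_mul, ← QuotientGroup.mk_mul,
            ← QuotientGroup.mk_mul, QuotientGroup.eq_one_iff]
          refine mem_sup_left ?_
          rw [derivedSeries_succ]
          exact commutator_mem_commutator ha' hb'
      obtain ⟨j, hj⟩ := (Group.isSolvable_def G).1 inferInstance
      have := hall j
      rw [hj, bot_sup_eq] at this
      exact hKN.not_ge this
  have hNH : ¬ N ≤ H := fun h => hKN.not_ge (hK ▸ normal_le_normalCore.2 h)
  have htop : N ⊔ H = ⊤ := (hH.le_iff.1 le_sup_right).resolve_right fun e => hNH (e ▸ le_sup_left)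
  have hNHK : N ⊓ H ≤ K := by
    haveI : (N ⊓ H).Normal := by
      rw [← normalizer_eq_top_iff, eq_top_iff, ← htop]
      refine sup_le (fun n hn => mem_normalizer_fintype fun w hw => ?_)
        (fun h hh => mem_normalizer_fintype fun w hw =>
          Subgroup.mem_inf.2 ⟨hNn.conj_mem w hw.1 h, mul_mem (mul_mem hh hw.2) (inv_mem hh)⟩)
      have h1 : n * w * n⁻¹ * w⁻¹ ∈ K := hcomm (commutator_mem_commutator hn hw.1)
      exact ⟨hNn.conj_mem w hw.1 n, by
        have := mul_mem (hKH h1) hw.2
        rwa [inv_mul_cancel_right] at this⟩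
    exact normal_le_normalCore.2 inf_le_right
  -- the prime of `N/K`
  set q := (K.subgroupOf N).index with hqdef
  obtain ⟨r, hr, hrq⟩ := Nat.exists_prime_and_dvd (n := q) (fun e => by
    rw [hqdef, index_eq_one, subgroupOf_eq_top] at e
    exact hKN.not_ge e)
  haveI := Fact.mk hr
  have hexp : ∀ n ∈ N, n ^ r ∈ K := by
    let M : Subgroup G :=
      { carrier := {n | n ∈ N ∧ n ^ r ∈ K}
        one_mem' := ⟨N.one_mem, by rw [one_pow]; exact K.one_mem⟩
        mul_mem' := fun {a b} ha hb => ⟨N.mul_mem ha.1 hb.1, by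
          rw [← QuotientGroup.eq_one_iff, QuotientGroup.mk_pow, QuotientGroup.mk_mul]
          have hab : Commute (a : G ⧸ K) (b : G ⧸ K) := by
            have h1 := (QuotientGroup.eq_one_iff _).2 (hcomm (commutator_mem_commutator ha.1 hb.1))
            rw [commutatorElement_def] at h1
            simp only [QuotientGroup.mk_mul, QuotientGroup.mk_inv] at h1
            show (a : G ⧸ K) * b = b * a
            calc (a : G ⧸ K) * b = ((a : G ⧸ K) * b * (a : G ⧸ K)⁻¹ * (b : G ⧸ K)⁻¹) * (b * a) := by group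
              _ = _ := by rw [h1, one_mul]
          rw [hab.mul_pow, ← QuotientGroup.mk_pow, ← QuotientGroup.mk_pow,
            (QuotientGroup.eq_one_iff _).2 ha.2, (QuotientGroup.eq_one_iff _).2 hb.2, one_mul]⟩
        inv_mem' := fun {a} ha => ⟨N.inv_mem ha.1, by rw [inv_pow]; exact K.inv_mem ha.2⟩ }
    haveI : M.Normal := ⟨fun n hn g => ⟨hNn.conj_mem n hn.1 g, by
      rw [conj_pow]; exact (inferInstance : K.Normal).conj_mem _ hn.2 g⟩⟩
    rcases hmin M inferInstance (fun n hn => ⟨hKN.le hn, pow_mem hn r⟩) (fun n hn => hn.1) with e | e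
    · exfalso
      haveI : (K.subgroupOf N).Normal := inferInstance
      obtain ⟨z, hz⟩ := exists_prime_orderOf_dvd_card' (G := N ⧸ K.subgroupOf N) r hrq
      obtain ⟨n, rfl⟩ := QuotientGroup.mk_surjective z
      have hmem : (n : G) ∈ M := ⟨n.2, by
        have h1 : n ^ r ∈ K.subgroupOf N := by
          rw [← QuotientGroup.eq_one_iff, QuotientGroup.mk_pow, ← hz, pow_orderOf_eq_one]
        simpa [mem_subgroupOf] using h1⟩
      rw [e] at hmem
      have h2 : (n : N ⧸ K.subgroupOf N) = 1 := (QuotientGroup.eq_one_iff n).2 hmem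
      rw [h2, orderOf_one] at hz
      exact hr.ne_one hz.symm
    · intro n hn; rw [← e] at hn; exact hn.2
  have hcardN : ∃ m : ℕ, Nat.card (G ⧸ H) = r ^ m := by
    have hp' : IsPGroup r (N ⧸ K.subgroupOf N) := by
      intro z
      obtain ⟨n, rfl⟩ := QuotientGroup.mk_surjective z
      refine ⟨1, ?_⟩
      rw [pow_one, ← QuotientGroup.mk_pow, QuotientGroup.eq_one_iff, mem_subgroupOf]
      exact hexp n n.2
    obtain ⟨m, hm⟩ := IsPGroup.iff_card.1 hp'
    have h1 : H.relIndex N = Nat.card (N ⧸ K.subgroupOf N) := by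
      show (H.subgroupOf N).index = _
      have e : H.subgroupOf N = K.subgroupOf N := by
        ext n
        simp only [mem_subgroupOf]
        exact ⟨fun h => hNHK ⟨n.2, h⟩, fun h => hKH h⟩
      rw [e, index_eq_card]
    refine ⟨m, ?_⟩
    rw [← hm, ← h1, ← index_eq_card]
    exact (index_eq_relIndex_of_sup hNn htop)
  obtain ⟨m, hm⟩ := hcardN
  -- fixed cosets
  rcases Nat.eq_zero_or_pos (Nat.card {c : G ⧸ H // x • c = c}) with h0 | hpos
  · rw [h0, mul_zero]; exact Nat.zero_le _
  obtain ⟨⟨c₀, hc₀⟩⟩ := (Nat.card_pos_iff.1 hpos).1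
  obtain ⟨g, rfl⟩ := QuotientGroup.mk_surjective c₀
  set y := g⁻¹ * x * g with hy
  have hyH : y ∈ H := by
    have h1 : ((x * g : G) : G ⧸ H) = (g : G ⧸ H) := hc₀
    have h2 := QuotientGroup.eq.1 h1.symm
    rwa [← mul_assoc] at h2
  -- fixed cosets of `y` form a subgroup of `N`
  let S : Subgroup N :=
    { carrier := {n | (n : G)⁻¹ * y * n * y⁻¹ ∈ K}
      one_mem' := by simp
      mul_mem' := fun {a b} ha hb => by
        show ((a * b : N) : G)⁻¹ * y * (a * b : N) * y⁻¹ ∈ K
        rw [Subgroup.coe_mul, show ((a : G) * b)⁻¹ * y * (a * b) * y⁻¹ =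
          ((b : G)⁻¹ * ((a : G)⁻¹ * y * a * y⁻¹) * b) * ((b : G)⁻¹ * y * b * y⁻¹) by group]
        refine mul_mem ?_ hb
        have := (inferInstance : K.Normal).conj_mem _ ha (b : G)⁻¹
        rwa [inv_inv] at this
      inv_mem' := fun {a} ha => by
        show ((a⁻¹ : N) : G)⁻¹ * y * (a⁻¹ : N) * y⁻¹ ∈ K
        have := (inferInstance : K.Normal).conj_mem _ (inv_mem ha) (a : G)
        rw [Subgroup.coe_inv, inv_inv]
        rwa [show (a : G) * ((a : G)⁻¹ * y * a * y⁻¹)⁻¹ * (a : G)⁻¹ = a * y * (a : G)⁻¹ * y⁻¹ by group] at this }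
  have hKS : K.subgroupOf N ≤ S := fun n hn => by
    show (n : G)⁻¹ * y * n * y⁻¹ ∈ K
    rw [show (n : G)⁻¹ * y * n * y⁻¹ = (n : G)⁻¹ * (y * n * y⁻¹) by group]
    exact mul_mem (inv_mem hn) ((inferInstance : K.Normal).conj_mem _ hn y)
  have hS : S ≠ ⊤ := by
    intro hS
    let T : Subgroup G :=
      { carrier := {t | ∀ n ∈ N, n⁻¹ * t * n * t⁻¹ ∈ K}
        one_mem' := fun n _ => by simp
        mul_mem' := fun {a b} ha hb n hn => by
          rw [show n⁻¹ * (a * b) * n * (a * b)⁻¹ = (n⁻¹ * a * n * a⁻¹) * (a * (n⁻¹ * b * n * b⁻¹) * a⁻¹) by group]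
          exact mul_mem (ha n hn) ((inferInstance : K.Normal).conj_mem _ (hb n hn) a)
        inv_mem' := fun {a} ha n hn => by
          rw [show n⁻¹ * a⁻¹ * n * a⁻¹⁻¹ = a⁻¹ * (a * n⁻¹ * a⁻¹ * n) * a by group]
          have h1 := inv_mem (ha n hn)
          rw [show (n⁻¹ * a * n * a⁻¹)⁻¹ = a * n⁻¹ * a⁻¹ * n by group] at h1
          have := (inferInstance : K.Normal).conj_mem _ h1 a⁻¹
          rwa [inv_inv] at this }
    haveI : T.Normal := ⟨fun t ht g n hn => by
      have h1 := ht (g⁻¹ * n * g) (by simpa using hNn.conj_mem n hn g⁻¹)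
      have := (inferInstance : K.Normal).conj_mem _ h1 g
      convert this using 1
      group⟩
    have hyT : y ∈ T := fun n hn => (hS ▸ mem_top (⟨n, hn⟩ : N) : (⟨n, hn⟩ : N) ∈ S)
    have hT : T = ⊤ := by
      rw [eq_top_iff, ← hgen]
      refine normalClosure_le_normal (Set.singleton_subset_iff.2 ?_)
      have := (inferInstance : T.Normal).conj_mem _ hyT g
      rwa [show g * y * g⁻¹ = x by rw [hy]; group] at this
    -- then `H` is normal
    have hn : H.Normal := by
      rw [← normalizer_eq_top_iff, eq_top_iff, ← htop]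
      refine sup_le (fun n hn => mem_normalizer_fintype fun w hw => ?_) le_normalizer
      have h1 := (hT ▸ mem_top w : w ∈ T) n⁻¹ (inv_mem hn)
      rw [inv_inv] at h1
      have := mul_mem (hKH h1) hw
      rwa [inv_mul_cancel_right] at this
    apply hH.1
    rw [eq_top_iff, ← hgen]
    refine normalClosure_le_normal (Set.singleton_subset_iff.2 ?_)
    have := hn.conj_mem _ hyH g
    rwa [show g * y * g⁻¹ = x by rw [hy]; group] at this
  -- the fixed cosets of `y` are the image of `S`
  have himg : ∀ c : G ⧸ H, x • c = c → ∃ n : S, c = ((g * ((n : N) : G) : G) : G ⧸ H) := by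
    intro c hc
    obtain ⟨w, rfl⟩ := QuotientGroup.mk_surjective c
    have hw : g⁻¹ * w ∈ ((N ⊔ H : Subgroup G) : Set G) := htop ▸ mem_top _
    rw [Subgroup.normal_mul] at hw
    obtain ⟨n, hn, h, hh, e⟩ := hw
    have e' : w = g * n * h := by
      rw [mul_assoc, show n * h = g⁻¹ * w from e, mul_inv_cancel_left]
    subst e'
    have hcl : ((g * n * h : G) : G ⧸ H) = ((g * n : G) : G ⧸ H) := by
      rw [QuotientGroup.eq]
      rw [show (g * n * h)⁻¹ * (g * n) = h⁻¹ by group]
      exact inv_mem hh
    have hc' : ((x * (g * n * h) : G) : G ⧸ H) = ((g * n * h : G) : G ⧸ H) := hc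
    have h1 := QuotientGroup.eq.1 hc'.symm
    have h2 : n⁻¹ * y * n ∈ H := by
      have := mul_mem (mul_mem hh h1) (inv_mem hh)
      rwa [show h * ((g * n * h)⁻¹ * (x * (g * n * h))) * h⁻¹ = n⁻¹ * y * n by rw [hy]; group] at this
    have h3 : n⁻¹ * y * n * y⁻¹ ∈ K := hNHK (Subgroup.mem_inf.2 ⟨by
      rw [show n⁻¹ * y * n * y⁻¹ = n⁻¹ * (y * n * y⁻¹) by group]
      exact mul_mem (inv_mem hn) (hNn.conj_mem n hn y), mul_mem h2 (inv_mem hyH)⟩)
    exact ⟨⟨⟨n, hn⟩, h3⟩, hcl⟩
  have hfle : Nat.card {c : G ⧸ H // x • c = c} ≤ (K.subgroupOf N).relIndex S := by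
    choose f hf using fun c : {c : G ⧸ H // x • c = c} => himg c.1 c.2
    let f' : {c : G ⧸ H // x • c = c} → S ⧸ (K.subgroupOf N).subgroupOf S := fun c => (f c : _)
    have hinj : Function.Injective f' := by
      intro a b hab
      have h1 := QuotientGroup.eq.1 hab
      refine Subtype.ext ?_
      rw [hf a, hf b, QuotientGroup.eq]
      rw [mem_subgroupOf, mem_subgroupOf] at h1
      simp only [Subgroup.coe_mul, Subgroup.coe_inv] at h1
      rw [show (g * ((f a : N) : G))⁻¹ * (g * ((f b : N) : G)) = ((f a : N) : G)⁻¹ * ((f b : N) : G) by group]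
      exact hKH h1
    exact (Nat.card_le_card_of_injective f' hinj).trans (le_of_eq (index_eq_card _).symm)
  -- the index of `S`
  have hi : (K.subgroupOf N).relIndex S * S.index = Nat.card (G ⧸ H) := by
    rw [relIndex_mul_index hKS]
    show K.relIndex N = H.index
    rw [index_eq_relIndex_of_sup hNn htop]
    show (K.subgroupOf N).index = (H.subgroupOf N).index
    congr 1
    ext n
    simp only [mem_subgroupOf]
    exact ⟨fun h => hKH h, fun h => hNHK ⟨n.2, h⟩⟩
  rw [hm] at hi
  obtain ⟨j, hj, hSj⟩ := (Nat.dvd_prime_pow hr).1 (Dvd.intro_left _ hi)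
  have hj0 : j ≠ 0 := fun e => hS (index_eq_one.1 (by rw [hSj, e, pow_zero]))
  have hP : IsPGroup p (zpowers x) := IsPGroup.of_card (n := 1) (by rw [Nat.card_zpowers, hx, pow_one])
  have hmod := hP.card_modEq_card_fixedPoints (G ⧸ H)
  have hfp : Nat.card (MulAction.fixedPoints (zpowers x) (G ⧸ H)) = Nat.card {c : G ⧸ H // x • c = c} := by
    refine Nat.card_congr (Equiv.subtypeEquivRight fun c => ?_)
    refine ⟨fun h => h ⟨x, mem_zpowers x⟩, fun h a => ?_⟩
    obtain ⟨_, i, rfl⟩ := a
    exact zpow_mem (MulAction.mem_stabilizer_iff.2 h) i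
  rw [hfp, hm] at hmod
  set f := Nat.card {c : G ⧸ H // x • c = c}
  rw [hm]
  have hle : f * S.index ≤ r ^ m := by
    calc f * S.index ≤ (K.subgroupOf N).relIndex S * S.index := Nat.mul_le_mul_right _ hfle
      _ = _ := hi
  by_cases hrp : r = p
  · calc p * f ≤ S.index * f := Nat.mul_le_mul_right _ (by rw [hSj, hrp]; exact Nat.le_self_pow hj0 p)
      _ = f * S.index := mul_comm _ _
      _ ≤ _ := hle
  · by_contra hcon
    push Not at hcon
    have hfr : f < r ^ m := by
      calc f < f * S.index := by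
            rw [hSj]; exact lt_mul_of_one_lt_right hpos (Nat.one_lt_pow hj0 hr.one_lt)
        _ ≤ _ := hle
    -- `p` divides `r ^ m - f`, and `f` is an exact power of `r`
    have hfe : f * S.index = r ^ m := by
      have hge : (K.subgroupOf N).relIndex S ≤ f := by
        let e : S ⧸ (K.subgroupOf N).subgroupOf S → {c : G ⧸ H // x • c = c} := fun s =>
          Quotient.liftOn' s (fun n => ⟨((g * ((n : N) : G) : G) : G ⧸ H), by
            show ((x * (g * ((n : N) : G)) : G) : G ⧸ H) = _
            rw [QuotientGroup.eq]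
            have h2 : ((n : N) : G)⁻¹ * y * n ∈ H := by
              have := mul_mem (hKH n.2) hyH
              rwa [inv_mul_cancel_right] at this
            have := inv_mem h2
            rwa [hy, show (((n : N) : G)⁻¹ * (g⁻¹ * x * g) * n)⁻¹ =
              (x * (g * ((n : N) : G)))⁻¹ * (g * ((n : N) : G)) by group] at this⟩)
            fun a b hab => Subtype.ext (by
              rw [QuotientGroup.leftRel_apply, mem_subgroupOf, mem_subgroupOf] at hab
              simp only [Subgroup.coe_mul, Subgroup.coe_inv] at hab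
              show ((g * ((a : N) : G) : G) : G ⧸ H) = _
              rw [QuotientGroup.eq, show (g * ((a : N) : G))⁻¹ * (g * ((b : N) : G)) =
                ((a : N) : G)⁻¹ * ((b : N) : G) by group]
              exact hKH hab)
        have hinj : Function.Injective e := by
          intro s t
          induction s using Quotient.inductionOn' with
          | h a =>
            induction t using Quotient.inductionOn' with
            | h b =>
              intro h
              have h1 := QuotientGroup.eq.1 (congrArg Subtype.val h)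
              rw [show (g * ((a : N) : G))⁻¹ * (g * ((b : N) : G)) =
                ((a : N) : G)⁻¹ * ((b : N) : G) by group] at h1
              refine Quotient.sound' ?_
              rw [QuotientGroup.leftRel_apply, mem_subgroupOf, mem_subgroupOf]
              simp only [Subgroup.coe_mul, Subgroup.coe_inv]
              exact hNHK (Subgroup.mem_inf.2 ⟨mul_mem (inv_mem (a : N).2) (b : N).2, h1⟩)
        exact (le_of_eq (index_eq_card _)).trans (Nat.card_le_card_of_injective e hinj)
      rw [le_antisymm hfle hge, hi]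
    obtain ⟨i, -, hfi⟩ := (Nat.dvd_prime_pow hr).1 (Dvd.intro _ hfe)
    have h1 : f * 1 ≡ f * S.index [MOD p] := by rw [mul_one, hfe]; exact hmod.symm
    have h2 : 1 ≡ S.index [MOD p] := Nat.ModEq.cancel_left_of_coprime (by
      rw [Nat.gcd_comm]
      rw [hfi]
      exact ((Nat.coprime_primes hr hp.out).2 hrp).pow_left i) h1
    have h3 : p ∣ S.index - 1 := (Nat.modEq_iff_dvd' (by rw [hSj]; exact Nat.one_le_pow _ _ hr.pos)).1 h2
    have h4 : 1 < S.index := by rw [hSj]; exact Nat.one_lt_pow hj0 hr.one_lt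
    have h5 := Nat.le_of_dvd (by omega) h3
    have h6 : f * p ≤ f * S.index := Nat.mul_le_mul_left f (by omega)
    rw [hfe, mul_comm] at h6
    omega

/-- In a transitive action of a solvable group generated by conjugates of `x` of order `p`, at most
a `1/p` part of the points is fixed by `x`. -/
theorem fixed_ratio (x : G) (hx : orderOf x = p) (hgen : normalClosure {x} = ⊤) {ι : Type v} [Finite ι]
    [MulAction G ι] [MulAction.IsPretransitive G ι] [Nontrivial ι] :
    p * Nat.card {i : ι // x • i = i} ≤ Nat.card ι := by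
  classical
  obtain ⟨i₀⟩ := (inferInstance : Nonempty ι)
  set St := MulAction.stabilizer G i₀ with hSt
  have hne : St ≠ ⊤ := by
    intro e
    obtain ⟨a, b, hab⟩ := exists_pair_ne ι
    obtain ⟨g, hg⟩ := MulAction.exists_smul_eq G i₀ a
    obtain ⟨h, hh⟩ := MulAction.exists_smul_eq G i₀ b
    have h1 : g ∈ St := e ▸ mem_top g
    have h2 : h ∈ St := e ▸ mem_top h
    rw [hSt, MulAction.mem_stabilizer_iff] at h1 h2
    exact hab (hg.symm.trans (h1.trans (h2.symm.trans hh)))
  obtain ⟨H, hH, hle⟩ := (eq_top_or_exists_le_coatom St).resolve_left hne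
  have hr := ratio_coset (p := p) x hx hgen H hH
  -- project
  have hpr : ∀ i : ι, ∃ g : G, g • i₀ = i := fun i => MulAction.exists_smul_eq G i₀ i
  choose t ht using hpr
  let pr : ι → G ⧸ H := fun i => (t i : G ⧸ H)
  have hpr' : ∀ g i, pr (g • i) = g • pr i := fun g i => by
    show ((t (g • i) : G) : G ⧸ H) = ((g * t i : G) : G ⧸ H)
    rw [QuotientGroup.eq]
    refine hle ?_
    rw [hSt, MulAction.mem_stabilizer_iff, mul_smul, mul_smul, ht, inv_smul_eq_iff, ht]
  have hfib : ∀ c, Nat.card {i // pr i = c} = Nat.card {i // pr i = pr i₀} := by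
    intro c
    obtain ⟨g, rfl⟩ := QuotientGroup.mk_surjective c
    obtain ⟨w, hw⟩ : ∃ w : G, w • pr i₀ = (g : G ⧸ H) :=
      ⟨g * (t i₀)⁻¹, by
        show ((g * (t i₀)⁻¹ * t i₀ : G) : G ⧸ H) = _
        rw [inv_mul_cancel_right]⟩
    refine (Nat.card_congr ((MulAction.toPerm w).subtypeEquiv fun i => ?_)).symm
    rw [MulAction.toPerm_apply, hpr', ← hw]
    exact (MulAction.injective w).eq_iff.symm
  set d := Nat.card {i // pr i = pr i₀}
  have htot : Nat.card ι = Nat.card (G ⧸ H) * d := by
    haveI := Fintype.ofFinite (G ⧸ H)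
    rw [Nat.card_congr (Equiv.sigmaFiberEquiv pr).symm, Nat.card_sigma, Finset.sum_congr rfl fun c _ => hfib c,
      Finset.sum_const, Finset.card_univ, ← Nat.card_eq_fintype_card, smul_eq_mul]
  have hfix : Nat.card {i : ι // x • i = i} ≤ Nat.card {c : G ⧸ H // x • c = c} * d := by
    let f : {i : ι // x • i = i} → (Σ c : {c : G ⧸ H // x • c = c}, {i // pr i = c.1}) := fun i =>
      ⟨⟨pr i.1, by rw [← hpr', i.2]⟩, ⟨i.1, rfl⟩⟩
    have hf : Function.Injective f := fun a b h =>
      Subtype.ext (congrArg (fun s : (Σ c : {c : G ⧸ H // x • c = c}, {i // pr i = c.1}) => s.2.1) h)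
    refine (Nat.card_le_card_of_injective f hf).trans (le_of_eq ?_)
    haveI := Fintype.ofFinite {c : G ⧸ H // x • c = c}
    rw [Nat.card_sigma, Finset.sum_congr rfl fun c _ => hfib c.1, Finset.sum_const, Finset.card_univ,
      ← Nat.card_eq_fintype_card, smul_eq_mul]
  calc p * Nat.card {i : ι // x • i = i} ≤ p * Nat.card {c : G ⧸ H // x • c = c} * d := by
        rw [mul_assoc]; exact Nat.mul_le_mul_left _ hfix
    _ ≤ Nat.card (G ⧸ H) * d := Nat.mul_le_mul_right _ hr
    _ = _ := htot.symm

end CfsgLib.PGroup.FixedHalf
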