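import Cfsg.Agent.Lib.PGroup.FixedHalf.Symplectic
import Mathlib.LinearAlgebra.Matrix.ToLin
import Mathlib.LinearAlgebra.FreeModule.Finite.Matrix

/-!
# Fixed points: an element of coprime order acting on a non-degenerate pairing

The conjugation action on the endomorphisms bounds the dimension of the fixed space.
-/

set_option autoImplicit false
set_option linter.style.haveILetI false
set_option linter.unusedSectionVars false

namespace CfsgLib.PGroup.FixedHalf

open Module

universe u

variable {G : Type u} [Group G] [Finite G] {k : Type*} [Field k] {V : Type*} [AddCommGroup V]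
  [Module k V] [FiniteDimensional k V] {p : ℕ} [hp : Fact p.Prime] {ρ : G →* End k V} {x : G}
  {M : Subgroup G} {q : ℕ}

/-- Nontrivial characters sum to zero. -/
theorem sum_hom_eq_zero {H : Type*} [Group H] [Fintype H] (χ : H → k)
    (hχ : ∀ a b, χ (a * b) = χ a * χ b) {a : H} (ha : χ a ≠ 1) : ∑ b, χ b = 0 := by
  have h1 : ∑ b, χ b = χ a * ∑ b, χ b := by
    rw [Finset.mul_sum]
    exact (Fintype.sum_equiv (Equiv.mulLeft a) _ _ fun b => by simp [hχ]).symm
  have h2 : (χ a - 1) * ∑ b, χ b = 0 := by rw [sub_mul, one_mul, ← h1, sub_self]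
  exact (mul_eq_zero.1 h2).resolve_left (sub_ne_zero.2 ha)

/-- The commutant of a map with an `a`-dimensional fixed space. -/
theorem fixed_commutant_ge (T : V →ₗ[k] V) (X : Submodule k (End k V))
    (hX : ∀ f : End k V, T ∘ₗ f = f ∘ₗ T → f ∈ X) (hlt : finrank k (End.eigenspace T 1) < finrank k V) :
    finrank k (End.eigenspace T 1) * finrank k (End.eigenspace T 1) + 1 ≤ finrank k X := by
  classical
  set C := End.eigenspace T 1 with hC
  set N := LinearMap.range (T - LinearMap.id) with hN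
  have hCv : ∀ v, v ∈ C ↔ T v = v := fun v => by rw [hC, End.mem_eigenspace_iff, one_smul]
  have hker : LinearMap.ker (T - LinearMap.id) = C := by
    ext v
    rw [LinearMap.mem_ker, LinearMap.sub_apply, LinearMap.id_apply, sub_eq_zero, hCv]
  have hquot : finrank k (V ⧸ N) = finrank k C := by
    have h1 := N.finrank_quotient_add_finrank
    have h2 := LinearMap.finrank_range_add_finrank_ker (T - LinearMap.id)
    rw [hker, ← hN] at h2
    omega
  let Φ : ((V ⧸ N) →ₗ[k] C) →ₗ[k] End k V :=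
    { toFun := fun f => C.subtype ∘ₗ f ∘ₗ N.mkQ
      map_add' := fun f g => by ext v; simp
      map_smul' := fun c f => by ext v; simp }
  have hΦ : Function.Injective Φ := by
    intro f g hfg
    refine LinearMap.ext fun w => ?_
    obtain ⟨v, rfl⟩ := N.mkQ_surjective w
    exact Subtype.ext (LinearMap.congr_fun hfg v)
  have hrange : LinearMap.range Φ ≤ X := by
    rintro _ ⟨f, rfl⟩
    refine hX _ (LinearMap.ext fun v => ?_)
    show T (f (N.mkQ v) : V) = (f (N.mkQ (T v)) : V)
    rw [(hCv _).1 (f (N.mkQ v)).2]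
    congr 2
    rw [Submodule.mkQ_apply, Submodule.mkQ_apply, eq_comm, Submodule.Quotient.eq, hN]
    exact ⟨v, by simp⟩
  have hid : (LinearMap.id : End k V) ∉ LinearMap.range Φ := by
    rintro ⟨f, hf⟩
    refine hlt.not_ge ?_
    have hsurj : Function.Surjective C.subtype := fun v => ⟨f (N.mkQ v), LinearMap.congr_fun hf v⟩
    exact LinearMap.finrank_le_finrank_of_injective (f := (LinearEquiv.ofBijective C.subtype
      ⟨C.injective_subtype, hsurj⟩).symm.toLinearMap) (LinearEquiv.injective _)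
  have hlt2 : LinearMap.range Φ < X := by
    refine lt_of_le_of_ne hrange fun e => hid ?_
    rw [e]
    exact hX _ rfl
  have h3 := Submodule.finrank_lt_finrank_of_lt hlt2
  rw [LinearMap.finrank_range_of_inj hΦ, Module.finrank_linearMap, hquot] at h3
  omega

/-- The numerical bound. -/
theorem four_mul_le {p q j : ℕ} (hp : p.Prime) (hq : q.Prime) (hp3 : 3 < p) (hj : 2 ≤ j)
    (hmod : q ^ j % p = 1) : 4 * (p - 1) ≤ q ^ j * (p - 4) := by
  have hgt : p < q ^ j := by
    by_contra hcon
    push Not at hcon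
    rcases hcon.eq_or_lt with e | e
    · rw [e, Nat.mod_self] at hmod; exact zero_ne_one hmod
    · rw [Nat.mod_eq_of_lt e] at hmod
      exact absurd hmod (Nat.one_lt_pow (by omega) hq.one_lt).ne'
  rcases Nat.lt_or_ge p 6 with h6 | h6
  · have hp5 : p = 5 := by
      have h4 : p ≠ 4 := fun e => (by decide : ¬ Nat.Prime 4) (e ▸ hp)
      omega
    subst hp5
    have : 16 ≤ q ^ j := by
      by_contra hcon
      push Not at hcon
      have hj4 : j < 4 := (Nat.pow_lt_pow_iff_right (a := 2) (by omega)).1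
        (lt_of_le_of_lt (Nat.pow_le_pow_left hq.two_le j) (by simpa using hcon))
      have hq4 : q < 4 := by
        have h1 : q ^ 2 ≤ q ^ j := Nat.pow_le_pow_right hq.pos hj
        nlinarith
      interval_cases j <;> interval_cases q <;> simp_all
    omega
  · have h7 : 7 ≤ p := by
      rcases h6.eq_or_lt with e | e
      · exact absurd (e ▸ hp) (by decide)
      · omega
    obtain ⟨r, rfl⟩ : ∃ r, p = r + 7 := ⟨p - 7, by omega⟩
    have h1 : (r + 8) * (r + 7 - 4) ≤ q ^ j * (r + 7 - 4) := Nat.mul_le_mul_right _ hgt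
    refine le_trans ?_ h1
    rw [show r + 7 - 4 = r + 3 by omega, show r + 7 - 1 = r + 6 by omega]
    nlinarith

/-- The case of coprime orders. -/
theorem half_of_coprime (h : Setup ρ x p) [hq : Fact q.Prime] (hM : Sympl ρ x M q) (hpq : p ≠ q) :
    2 * finrank k (End.eigenspace (ρ x) 1) < finrank k V := by
  classical
  haveI := h.nt
  haveI := hM.normal
  obtain ⟨β, hβ, hβ1, hβc, hβl, hβr, hβx, hβq⟩ := hM.exists_beta h
  letI : Fintype M := Fintype.ofFinite M
  have hβ0 : ∀ m ∈ M, ∀ n ∈ M, β m n ≠ 0 := fun m hm n hn e => by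
    have := hβq m hm n hn
    rw [e, zero_pow hq.out.ne_zero] at this
    exact zero_ne_one this
  have hqk : (q : k) ≠ 0 := by
    obtain ⟨m, hm, n, hn, hne⟩ := hM.nab
    intro e
    haveI : CharP k q := (CharP.charP_iff_prime_eq_zero hq.out).2 e
    exact hne (hβ1 m hm n hn (sub_eq_zero.1 (pow_eq_zero_iff hq.out.ne_zero |>.1 (by
      rw [sub_pow_char, hβq m hm n hn, one_pow, sub_self]))))
  have hMk : (Fintype.card M : k) ≠ 0 := by
    intro e
    rcases CharP.char_is_prime_or_zero k (ringChar k) with hr | hr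
    · haveI := Fact.mk hr
      haveI : CharP k (ringChar k) := ringChar.charP k
      rw [CharP.cast_eq_zero_iff k (ringChar k)] at e
      obtain ⟨g, hg⟩ := exists_prime_orderOf_dvd_card (ringChar k) e
      obtain ⟨s, hs⟩ := h.scal _ (hM.expo g g.2)
      have hsr : s ^ ringChar k = 1 := scal_pow h.nt hs (by
        rw [← pow_mul, mul_comm, pow_mul, ← Subgroup.orderOf_coe] at *
        rw [← hg, pow_orderOf_eq_one, one_pow])
      have hs1 : s = 1 := sub_eq_zero.1 (pow_eq_zero_iff hr.ne_zero |>.1 (by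
        rw [sub_pow_char, hsr, one_pow, sub_self]))
      have h1 := orderOf_dvd_of_pow_eq_one (h.scal_inj hs hs1)
      rw [Subgroup.orderOf_coe, hg] at h1
      exact hqk ((CharP.cast_eq_zero_iff k (ringChar k) q).2 h1)
    · haveI : CharP k 0 := hr ▸ ringChar.charP k
      haveI := CharP.charP_to_charZero k
      exact Fintype.card_ne_zero (Nat.cast_eq_zero.1 e)
  set Z' := (Subgroup.center G).subgroupOf M with hZ'
  let Q := M ⧸ Z'
  letI : Fintype Q := Fintype.ofFinite Q
  -- the pairing only depends on classes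
  have hβz : ∀ n ∈ M, ∀ m m' : M, (m : Q) = m' → β n m = β n m' := by
    intro n hn m m' e
    have h1 := QuotientGroup.eq.1 e
    rw [Subgroup.mem_subgroupOf] at h1
    simp only [Subgroup.coe_mul, Subgroup.coe_inv] at h1
    have h2 := hβr n hn m m.2 ((m : G)⁻¹ * m') (mul_mem (inv_mem m.2) m'.2)
    rw [mul_inv_cancel_left, hβc n hn _ (mul_mem (inv_mem m.2) m'.2) (Subgroup.mem_center_iff.1 h1 n),
      mul_one] at h2
    exact h2.symm
  have hout : ∀ c : Q, ((c.out : M) : Q) = c := fun c => Quotient.out_eq c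
  -- eigenspaces of the conjugation action
  let W : Q → Submodule k (End k V) := fun c =>
    { carrier := {f | ∀ n : M, ρ n * f = β n c.out • (f * ρ n)}
      zero_mem' := fun n => by simp
      add_mem' := fun {f g} hf hg n => by rw [mul_add, hf n, hg n, add_mul, smul_add]
      smul_mem' := fun t f hf n => by rw [mul_smul_comm, hf n, smul_mul_assoc, smul_comm] }
  let Ad : M → End k (End k V) := fun n => LinearMap.mulLeft k (ρ n) ∘ₗ LinearMap.mulRight k (ρ (n : G)⁻¹)
  have hAd : ∀ n f, Ad n f = ρ n * f * ρ (n : G)⁻¹ := fun n f => by simp [Ad, mul_assoc]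
  let P : Q → End k (End k V) := fun c =>
    (Fintype.card M : k)⁻¹ • ∑ n : M, (β n c.out)⁻¹ • Ad n
  have hPapp : ∀ c f, P c f = (Fintype.card M : k)⁻¹ • ∑ n : M, (β n c.out)⁻¹ • (ρ n * f * ρ (n : G)⁻¹) :=
    fun c f => by simp [P, hAd]
  have hPmem : ∀ c f, P c f ∈ W c := by
    intro c f n₀
    rw [hPapp, mul_smul_comm, smul_mul_assoc, smul_comm (β n₀ c.out)]
    congr 1
    rw [Finset.mul_sum, Finset.sum_mul, Finset.smul_sum]
    refine Fintype.sum_equiv (Equiv.mulLeft n₀) _ _ fun n => ?_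
    rw [Equiv.coe_mulLeft, Subgroup.coe_mul, hβl n₀ n₀.2 n n.2 c.out c.out.2, mul_smul_comm,
      smul_mul_assoc, smul_smul, mul_inv, ← mul_assoc (β n₀ c.out), mul_inv_cancel₀ (hβ0 _ n₀.2 _ c.out.2),
      one_mul, mul_inv_rev, map_mul, map_mul]
    congr 1
    simp only [mul_assoc]
    rw [← map_mul ρ (n₀ : G)⁻¹, inv_mul_cancel, map_one, mul_one]
  have hχ : ∀ c c' : Q, c ≠ c' → ∑ n : M, (β n c.out)⁻¹ * β n c'.out = 0 := by
    intro c c' hne
    by_contra hcon
    apply hne
    have hall : ∀ n : M, β n c.out = β n c'.out := by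
      intro n
      by_contra hn
      refine hcon (sum_hom_eq_zero _ (fun a b => ?_) (a := n) ?_)
      · rw [Subgroup.coe_mul, hβl a a.2 b b.2 _ c.out.2, hβl a a.2 b b.2 _ c'.out.2, mul_inv]; ring
      · intro e
        rw [inv_mul_eq_one₀ (hβ0 _ n.2 _ c.out.2)] at e
        exact hn e
    rw [← hout c, ← hout c', QuotientGroup.eq, Subgroup.mem_subgroupOf]
    simp only [Subgroup.coe_mul, Subgroup.coe_inv]
    refine hM.nondeg _ (mul_mem (inv_mem c.out.2) c'.out.2) fun n hn => (hβ1 n hn _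
      (mul_mem (inv_mem c.out.2) c'.out.2) ?_).symm
    have h2 := hβr n hn c.out c.out.2 ((c.out : G)⁻¹ * c'.out) (mul_mem (inv_mem c.out.2) c'.out.2)
    rw [mul_inv_cancel_left, ← hall ⟨n, hn⟩] at h2
    exact (left_eq_mul₀ (hβ0 _ hn _ c.out.2)).1 h2
  have hWconj : ∀ c, ∀ f ∈ W c, ∀ n : M, ρ n * f * ρ (n : G)⁻¹ = β n c.out • f := by
    intro c f hf n
    rw [hf n, smul_mul_assoc, mul_assoc, ← map_mul, mul_inv_cancel, map_one, mul_one]
  have hP0 : ∀ c c', c ≠ c' → ∀ f ∈ W c', P c f = 0 := by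
    intro c c' hne f hf
    rw [hPapp, Finset.sum_congr rfl (fun n _ => by rw [hWconj c' f hf n, smul_smul]), ← Finset.sum_smul,
      hχ c c' hne, zero_smul, smul_zero]
  have hPid : ∀ c, ∀ f ∈ W c, P c f = f := by
    intro c f hf
    rw [hPapp, Finset.sum_congr rfl (fun n _ => by
      rw [hWconj c f hf n, smul_smul, inv_mul_cancel₀ (hβ0 _ n.2 _ c.out.2), one_smul]),
      Finset.sum_const, Finset.card_univ, ← Nat.cast_smul_eq_nsmul k, smul_smul, inv_mul_cancel₀ hMk,
      one_smul]
  have hsum : ∀ f, ∑ c, P c f = f := by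
    intro f
    simp only [hPapp]
    rw [← Finset.smul_sum, Finset.sum_comm]
    have hterm : ∀ n : M, ∑ c : Q, (β n c.out)⁻¹ • (ρ n * f * ρ (n : G)⁻¹) =
        if (n : G) ∈ Subgroup.center G then (Fintype.card Q : k) • f else 0 := by
      intro n
      rw [← Finset.sum_smul]
      split_ifs with hn
      · obtain ⟨s, hs⟩ := h.scal _ hn
        have hf : ρ n * f * ρ (n : G)⁻¹ = f := by
          rw [hs, smul_mul_assoc, one_mul, ← mul_one f, ← mul_smul_comm, ← hs, mul_one, mul_assoc,
            ← map_mul, mul_inv_cancel, map_one, mul_one]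
        have h1 : ∀ c : Q, (β n c.out)⁻¹ = 1 := fun c => by
          rw [hβc _ n.2 _ c.out.2 (Subgroup.mem_center_iff.1 hn _).symm, inv_one]
        rw [hf, Finset.sum_congr rfl fun c _ => h1 c, Finset.sum_const, Finset.card_univ, nsmul_one]
      · obtain ⟨m, hm, hne⟩ : ∃ m ∈ M, (n : G) * m ≠ m * n := by
          by_contra hcon
          push Not at hcon
          exact hn (hM.nondeg _ n.2 hcon)
        rw [sum_hom_eq_zero (fun c : Q => (β n c.out)⁻¹) (fun a b => ?_) (a := ((⟨m, hm⟩ : M) : Q)) ?_,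
          zero_smul]
        · rw [hβz _ n.2 _ ⟨m, hm⟩ (hout _), ne_eq, inv_eq_one]
          exact fun e => hne (hβ1 _ n.2 m hm e)
        · rw [← mul_inv, ← hβr _ n.2 _ a.out.2 _ b.out.2, ← Subgroup.coe_mul]
          rw [hβz _ n.2 (a * b).out (a.out * b.out) (by rw [QuotientGroup.mk_mul, hout, hout, hout])]
    rw [Finset.sum_congr rfl fun n _ => hterm n, Finset.sum_ite, Finset.sum_const_zero, add_zero,
      Finset.sum_const, ← Nat.cast_smul_eq_nsmul k, smul_smul, smul_smul]
    have hcard : Fintype.card M = (Finset.univ.filter fun n : M => (n : G) ∈ Subgroup.center G).card *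
        Fintype.card Q := by
      rw [← Fintype.card_subtype, ← Nat.card_eq_fintype_card, ← Nat.card_eq_fintype_card,
        ← Nat.card_eq_fintype_card, Subgroup.card_eq_card_quotient_mul_card_subgroup Z', mul_comm]
      rfl
    rw [mul_assoc, show ((Finset.univ.filter fun n : M => (n : G) ∈ Subgroup.center G).card : k) *
      (Fintype.card Q : k) = (Fintype.card M : k) by rw [hcard, Nat.cast_mul], inv_mul_cancel₀ hMk, one_smul]
  -- all pieces have the same dimension
  set b := finrank k (W 1) with hb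
  have hdim : ∀ c, finrank k (W c) = b := by
    intro c
    have h1 : ∀ n : M, β n (1 : Q).out = 1 := fun n => by
      rw [hβz _ n.2 (1 : Q).out 1 ((hout _).trans (QuotientGroup.mk_one _).symm)]
      exact hβc _ n.2 _ M.one_mem (by simp)
    have hinjL : ∀ g : G, Function.Injective (LinearMap.mulLeft k (ρ g) : End k (End k V)) := by
      intro g f f' e
      have := congrArg (fun t => ρ g⁻¹ * t) e
      simpa [← mul_assoc, ← map_mul] using this
    refine le_antisymm ?_ ?_
    · refine le_trans (le_of_eq (Submodule.equivMapOfInjective _ (hinjL (c.out : G)⁻¹) _).finrank_eq)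
        (Submodule.finrank_mono ?_)
      rintro _ ⟨f, hf, rfl⟩ n
      show ρ n * (ρ (c.out : G)⁻¹ * f) = β n (1 : Q).out • (ρ (c.out : G)⁻¹ * f * ρ n)
      rw [h1, one_smul, ← mul_assoc, hβ n n.2 _ (inv_mem c.out.2), smul_mul_assoc, mul_assoc, hf n,
        mul_smul_comm, smul_smul, ← hβr _ n.2 _ (inv_mem c.out.2) _ c.out.2, inv_mul_cancel,
        hβc _ n.2 _ M.one_mem (by simp), one_smul, ← mul_assoc]
    · refine le_trans (le_of_eq (Submodule.equivMapOfInjective _ (hinjL (c.out : G)) _).finrank_eq)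
        (Submodule.finrank_mono ?_)
      rintro _ ⟨f, hf, rfl⟩ n
      show ρ n * (ρ (c.out : G) * f) = β n c.out • (ρ (c.out : G) * f * ρ n)
      rw [← mul_assoc, hβ n n.2 _ c.out.2, smul_mul_assoc, mul_assoc, hf n, h1, one_smul, mul_assoc]
  have htot : Fintype.card Q * b ≤ finrank k V * finrank k V := by
    rw [← Module.finrank_linearMap k k V V]
    refine le_trans (le_of_eq ?_) (sum_finrank_le_of_proj P W hPid hP0)
    rw [Finset.sum_congr rfl fun c _ => hdim c, Finset.sum_const, Finset.card_univ, smul_eq_mul]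
  -- conjugation by `x`
  let φ : M ≃* M := MulAut.conjNormal x
  have hφ : ∀ m : M, (φ m : G) = x * m * x⁻¹ := fun m => MulAut.conjNormal_apply x m
  have hφZ : Z'.map φ.toMonoidHom = Z' := by
    refine Subgroup.eq_of_le_of_card_ge ?_ (Subgroup.card_map_of_injective φ.injective).ge
    rintro _ ⟨z, hz, rfl⟩
    show (φ z : G) ∈ Subgroup.center G
    have hz' : (z : G) ∈ Subgroup.center G := hz
    rw [hφ, Subgroup.mem_center_iff.1 hz' x, mul_inv_cancel_right]
    exact hz'
  let σ' : Q ≃* Q := QuotientGroup.congr Z' Z' φ hφZ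
  let σ : Equiv.Perm Q := σ'.toEquiv
  have hσm : ∀ m : M, σ (m : Q) = (φ m : Q) := fun m => rfl
  have hσn : ∀ (n : ℕ) (m : M), (σ ^ n) (m : Q) = (((φ : MulAut M) ^ n) m : Q) := by
    intro n
    induction n with
    | zero => intro m; rfl
    | succ n ih => intro m; rw [pow_succ', Equiv.Perm.mul_apply, ih, hσm, pow_succ']; rfl
  have hxp : x ^ p = 1 := by rw [← h.ord]; exact pow_orderOf_eq_one x
  have hσp : σ ^ p = 1 := Equiv.ext fun c => by
    obtain ⟨m, rfl⟩ := QuotientGroup.mk_surjective c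
    rw [hσn, show (φ : MulAut M) ^ p = 1 by rw [← map_pow, hxp, map_one]]
    rfl
  let T : End k (End k V) := LinearMap.mulLeft k (ρ x) ∘ₗ LinearMap.mulRight k (ρ x⁻¹)
  have hT : ∀ f, T f = ρ x * f * ρ x⁻¹ := fun f => by simp [T, mul_assoc]
  have heq : ∀ c f, P (σ c) (T f) = T (P c f) := by
    intro c f
    rw [hPapp, hT, hT, hPapp, mul_smul_comm, smul_mul_assoc, Finset.mul_sum, Finset.sum_mul]
    congr 1
    refine (Fintype.sum_equiv φ.toEquiv _ _ fun n => ?_).symm
    rw [mul_smul_comm, smul_mul_assoc, MulEquiv.toEquiv_eq_coe, MulEquiv.coe_toEquiv]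
    congr 1
    · rw [hβz _ (φ n).2 (σ c).out (φ c.out) (by rw [hout, ← hσm, hout]), hφ, hφ, hβx _ n.2 _ c.out.2]
    · rw [hφ]
      simp only [← mul_assoc, mul_inv_rev, inv_inv, map_mul]
      simp only [mul_assoc, ← map_mul, inv_mul_cancel, inv_mul_cancel_left, map_one, mul_one]
  set X := End.eigenspace T 1 with hX
  have hfix := fixed_decomp_le (p := p) σ hσp T P hsum heq W hPmem (fun c => (hdim c).le) X
    (fun f hf => by rw [End.mem_eigenspace_iff.1 hf, one_smul])
  have hnotcent : ρ x ≠ 1 := fun e => hp.out.ne_one (by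
    rw [← h.ord, h.inj (e.trans (map_one ρ).symm), orderOf_one])
  have hlt : finrank k (End.eigenspace (ρ x) 1) < finrank k V := by
    refine Submodule.finrank_lt fun e => hnotcent (LinearMap.ext fun v => ?_)
    have hv : v ∈ End.eigenspace (ρ x) 1 := e ▸ Submodule.mem_top
    rw [End.mem_eigenspace_iff.1 hv, one_smul, End.one_apply]
  have hlow := fixed_commutant_ge (ρ x) X (fun f hf => End.mem_eigenspace_iff.2 (by
    rw [hT, one_smul, show ρ x * f = f * ρ x from hf, mul_assoc, ← map_mul, mul_inv_cancel, map_one,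
      mul_one])) hlt
  -- the fixed classes
  haveI hQc : IsMulCommutative Q := ⟨⟨fun a b => by
    obtain ⟨a, rfl⟩ := QuotientGroup.mk_surjective a
    obtain ⟨b, rfl⟩ := QuotientGroup.mk_surjective b
    rw [← QuotientGroup.mk_mul, ← QuotientGroup.mk_mul, QuotientGroup.eq, Subgroup.mem_subgroupOf]
    simp only [Subgroup.coe_mul, Subgroup.coe_inv, mul_inv_rev]
    have := hM.comm _ (inv_mem b.2) _ (inv_mem a.2)
    rwa [inv_inv, inv_inv, mul_assoc] at this⟩⟩
  let δ : Q →* Q :=
    { toFun := fun c => σ' c * c⁻¹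
      map_one' := by simp
      map_mul' := fun a b => by
        rw [map_mul, mul_inv_rev, mul_assoc, mul_assoc, mul_comm' (σ' b) (b⁻¹ * a⁻¹),
          mul_comm' b⁻¹ a⁻¹, mul_comm' (σ' b) b⁻¹, mul_assoc] }
  have hfixcard : Nat.card {c // σ c = c} = Nat.card δ.ker :=
    Nat.card_congr (Equiv.subtypeEquivRight fun c => by
      rw [MonoidHom.mem_ker]
      exact mul_inv_eq_one.symm)
  set t := Nat.card δ.range with ht
  set f := Nat.card δ.ker with hf
  have hn : Nat.card Q = f * t := by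
    rw [hf, ht, ← Subgroup.index_ker, Subgroup.card_mul_index]
  have hQq : IsPGroup q Q := fun c => by
    obtain ⟨m, rfl⟩ := QuotientGroup.mk_surjective c
    exact ⟨1, by rw [pow_one, ← QuotientGroup.mk_pow, QuotientGroup.eq_one_iff]; exact hM.expo m m.2⟩
  obtain ⟨j, hj⟩ := IsPGroup.iff_card.1 (hQq.to_subgroup δ.range)
  rw [← ht] at hj
  have ht1 : t ≠ 1 := by
    intro e
    obtain ⟨m, hm, hmc⟩ := hM.act
    apply hmc
    have hmem : δ ((⟨m, hm⟩ : M) : Q) ∈ δ.range := ⟨_, rfl⟩
    rw [Subgroup.card_eq_one.1 (ht.symm.trans e), Subgroup.mem_bot] at hmem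
    have h2 : ((φ ⟨m, hm⟩ : M) : Q) * ((⟨m, hm⟩ : M) : Q)⁻¹ = 1 := hmem
    rw [← QuotientGroup.mk_inv, ← QuotientGroup.mk_mul, QuotientGroup.eq_one_iff,
      Subgroup.mem_subgroupOf] at h2
    simpa [hφ] using h2
  have hδp : ∀ c ∈ δ.range, δ c = 1 → c = 1 := by
    rintro _ ⟨c, rfl⟩ h2
    have h3 : σ' (δ c) = δ c := mul_inv_eq_one.1 h2
    have h4 : ∀ i : ℕ, (σ ^ i) c = δ c ^ i * c := by
      intro i
      induction i with
      | zero => simp
      | succ i ih =>
        rw [pow_succ', Equiv.Perm.mul_apply, ih]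
        show σ' (δ c ^ i * c) = _
        rw [map_mul, map_pow, h3, pow_succ, mul_assoc]
        congr 1
        show σ' c = σ' c * c⁻¹ * c
        rw [inv_mul_cancel_right]
    have h5 := h4 p
    rw [hσp, Equiv.Perm.one_apply, right_eq_mul] at h5
    obtain ⟨i, hi⟩ := hQq (δ c)
    exact orderOf_eq_one_iff.1 (Nat.eq_one_of_dvd_coprimes
      (((Nat.coprime_primes hp.out hq.out).2 hpq).pow_right i) (orderOf_dvd_of_pow_eq_one h5)
      (orderOf_dvd_of_pow_eq_one hi))
  have hj2 : 2 ≤ j := by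
    rcases Nat.lt_or_ge j 2 with hj' | hj'
    swap
    · exact hj'
    exfalso
    have hj1 : j = 1 := by
      rcases Nat.eq_zero_or_pos j with e | e
      · exact absurd (by rw [hj, e, pow_zero]) ht1
      · omega
    rw [hj1, pow_one] at hj
    haveI : Fact (Nat.card δ.range).Prime := ⟨by rw [← ht, hj]; exact hq.out⟩
    -- `Q` is the product of kernel and range
    have hgen : ∀ c : Q, ∃ u ∈ δ.range, δ (u⁻¹ * c) = 1 := by
      intro c
      have hinj : Function.Injective (fun u : δ.range => (⟨δ u, u, rfl⟩ : δ.range)) := fun u v e => by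
        have e' : δ u = δ v := congrArg Subtype.val e
        have := hδp ((u : Q) * (v : Q)⁻¹) (mul_mem u.2 (inv_mem v.2)) (by rw [map_mul, map_inv, e', mul_inv_cancel])
        exact Subtype.ext (mul_inv_eq_one.1 this)
      obtain ⟨u, hu⟩ := Finite.injective_iff_surjective.1 hinj ⟨δ c, c, rfl⟩
      have hu' : δ u = δ c := congrArg Subtype.val hu
      exact ⟨u, u.2, by rw [map_mul, map_inv, hu', inv_mul_cancel]⟩
    have hne : δ.range ≠ ⊥ := fun e => ht1 (by rw [ht, e, Subgroup.card_bot])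
    obtain ⟨u, hu, hu1⟩ := δ.range.bot_or_exists_ne_one.resolve_left hne
    obtain ⟨c₀, hc₀⟩ := hu
    obtain ⟨m₀, rfl⟩ := QuotientGroup.mk_surjective c₀
    obtain ⟨w, hw⟩ : ∃ w : M, w = φ m₀ * m₀⁻¹ := ⟨_, rfl⟩
    have hwu : (w : Q) = u := by rw [← hc₀, hw]; rfl
    apply hu1
    rw [← hwu, QuotientGroup.eq_one_iff, Subgroup.mem_subgroupOf]
    refine hM.nondeg _ w.2 fun n hn => hβ1 _ w.2 n hn ?_
    obtain ⟨v, hv, hv'⟩ := hgen ((⟨n, hn⟩ : M) : Q)
    have hz : v ∈ Subgroup.zpowers u := by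
      have h1 : (Subgroup.zpowers u).subgroupOf δ.range = ⊤ := by
        refine (Subgroup.eq_bot_or_eq_top_of_prime_card _).resolve_left fun e => hu1 ?_
        have hmem : (⟨u, ⟨_, hc₀⟩⟩ : δ.range) ∈ (Subgroup.zpowers u).subgroupOf δ.range :=
          Subgroup.mem_zpowers u
        rw [e, Subgroup.mem_bot] at hmem
        exact congrArg Subtype.val hmem
      exact (Subgroup.subgroupOf_eq_top.1 h1) hv
    obtain ⟨i, hi⟩ := (isOfFinOrder_of_finite u).mem_powers_iff_mem_zpowers.2 hz
    replace hi : u ^ i = v := hi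
    obtain ⟨f', hf'⟩ := QuotientGroup.mk_surjective (v⁻¹ * ((⟨n, hn⟩ : M) : Q))
    rw [← hf'] at hv'
    have hxf : x * (f' : G) * x⁻¹ = f' := by
      have h2 : ((φ f' : M) : Q) * (f' : Q)⁻¹ = 1 := hv'
      rw [← QuotientGroup.mk_inv, ← QuotientGroup.mk_mul, QuotientGroup.eq_one_iff,
        Subgroup.mem_subgroupOf] at h2
      simp only [Subgroup.coe_mul, Subgroup.coe_inv, hφ] at h2
      exact mul_inv_eq_one.1 (hM.noCentral f' h2)
    have hcl : ((⟨n, hn⟩ : M) : Q) = ((w ^ i * f' : M) : Q) := by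
      rw [QuotientGroup.mk_mul, QuotientGroup.mk_pow, hwu, hi, hf', mul_inv_cancel_left]
    have hww : β w w = 1 := hβc _ w.2 _ w.2 rfl
    have hwi : ∀ l : ℕ, β w ((w : G) ^ l) = 1 := by
      intro l
      induction l with
      | zero => rw [pow_zero]; exact hβc _ w.2 _ M.one_mem (by simp)
      | succ l ih => rw [pow_succ, hβr _ w.2 _ (pow_mem w.2 l) _ w.2, ih, hww, one_mul]
    have hwf : β w f' = 1 := by
      have h2 : β (φ m₀ : G) f' = β m₀ f' := by
        rw [hφ]
        conv_lhs => rw [← hxf]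
        exact hβx _ m₀.2 _ f'.2
      have h3 := hβl w w.2 m₀ m₀.2 f' f'.2
      rw [← Subgroup.coe_mul, show w * m₀ = φ m₀ by rw [hw, inv_mul_cancel_right], h2] at h3
      exact (right_eq_mul₀ (hβ0 _ m₀.2 _ f'.2)).1 h3
    show β w ((⟨n, hn⟩ : M) : G) = 1
    rw [hβz _ w.2 _ _ hcl, Subgroup.coe_mul, SubgroupClass.coe_pow,
      hβr _ w.2 _ (pow_mem w.2 i) _ f'.2, hwi, hwf, one_mul]
  have hf1 : 0 < f := Nat.card_pos
  have hmod : t % p = 1 := by
    have hP : IsPGroup p (Subgroup.zpowers σ) := by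
      rintro ⟨g, i, rfl⟩
      exact ⟨1, Subtype.ext (by
        show (σ ^ i) ^ (p ^ 1) = 1
        rw [pow_one, ← zpow_natCast, ← zpow_mul, mul_comm, zpow_mul, zpow_natCast, hσp, one_zpow])⟩
    have hmc := hP.card_modEq_card_fixedPoints Q
    have hfp : Nat.card (MulAction.fixedPoints (Subgroup.zpowers σ) Q) = f := by
      rw [← hfixcard]
      refine Nat.card_congr (Equiv.subtypeEquivRight fun c => ⟨fun hc => hc ⟨σ, Subgroup.mem_zpowers σ⟩,
        fun hc a => ?_⟩)
      obtain ⟨_, i, rfl⟩ := a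
      exact Equiv.Perm.zpow_apply_eq_self_of_apply_eq_self hc i
    rw [hfp, hn] at hmc
    obtain ⟨l, hl⟩ := IsPGroup.iff_card.1 (hQq.to_subgroup δ.ker)
    rw [← hf] at hl
    have h1 : f * t ≡ f * 1 [MOD p] := by rwa [mul_one]
    have h2 : t ≡ 1 [MOD p] := Nat.ModEq.cancel_left_of_coprime (by
      rw [Nat.gcd_comm, hl]; exact ((Nat.coprime_primes hq.out hp.out).2 (Ne.symm hpq)).pow_left l) h1
    rw [Nat.ModEq, Nat.one_mod_eq_one.2 hp.out.ne_one] at h2
    exact h2
  have hnum : 4 * (p - 1) ≤ t * (p - 4) := by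
    rw [hj] at hmod ⊢
    exact four_mul_le hp.out hq.out h.big hj2 hmod
  -- conclusion
  by_contra hcon
  push Not at hcon
  set a := finrank k (End.eigenspace (ρ x) 1)
  set D := finrank k V
  rw [hfixcard, hn] at hfix
  rw [← Nat.card_eq_fintype_card, hn] at htot
  have h1 : 4 * (f * t + (p - 1) * f) ≤ p * (f * t) := by
    have h2 := Nat.mul_le_mul_left f hnum
    have h3 := h.four_lt
    obtain ⟨r, rfl⟩ : ∃ r, p = r + 4 := ⟨p - 4, by omega⟩
    rw [show r + 4 - 1 = r + 3 by omega, show r + 4 - 4 = r by omega] at *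
    nlinarith
  have h4 : p * (a * a + 1) ≤ (f * t + (p - 1) * f) * b := (Nat.mul_le_mul_left p hlow).trans hfix
  have h5 : D * D ≤ 4 * (a * a) := by
    calc D * D ≤ (2 * a) * (2 * a) := Nat.mul_le_mul hcon hcon
      _ = _ := by ring
  have h6 : 4 * (p * (a * a + 1)) ≤ p * (D * D) := by
    calc 4 * (p * (a * a + 1)) ≤ 4 * ((f * t + (p - 1) * f) * b) := Nat.mul_le_mul_left 4 h4
      _ = 4 * (f * t + (p - 1) * f) * b := by ring
      _ ≤ p * (f * t) * b := Nat.mul_le_mul_right b h1
      _ = p * (f * t * b) := by ring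
      _ ≤ _ := Nat.mul_le_mul_left p htot
  have h7 := hp.out.pos
  have h8 : p * (D * D) ≤ p * (4 * (a * a)) := Nat.mul_le_mul_left p h5
  nlinarith

end CfsgLib.PGroup.FixedHalf
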