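import Cfsg.Agent.Lib.PGroup.FixedHalf.EndSpace
import Mathlib.RepresentationTheory.Irreducible
import Mathlib.RingTheory.Finiteness.Basic
import Mathlib.FieldTheory.Tower

/-!
# An element of prime order `p > 3` fixes less than half of a faithful irreducible module
-/

set_option autoImplicit false
set_option linter.style.haveILetI false
set_option linter.unusedSectionVars false

open scoped commutatorElement

namespace CfsgLib.PGroup.FixedHalf

open Module

universe u

variable {G : Type u} [Group G] [Finite G] [Group.IsSolvable G] {p : ℕ} [hp : Fact p.Prime] {x : G}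

/-- The case of scalar center. -/
theorem half_of_setup {k : Type*} [Field k] {V : Type*} [AddCommGroup V] [Module k V]
    [FiniteDimensional k V] {ρ : G →* End k V} (h : Setup ρ x p) :
    2 * finrank k (End.eigenspace (ρ x) 1) < finrank k V := by
  classical
  by_cases hxc : x ∈ Subgroup.center G
  · obtain ⟨s, hs, hs1⟩ := h.scal_ne hxc (fun e => hp.out.ne_one (by rw [← h.ord, e, orderOf_one]))
    have : End.eigenspace (ρ x) 1 = ⊥ := by
      rw [eq_bot_iff]
      intro v hv
      rw [End.mem_eigenspace_iff, scal_commute hs, ← sub_eq_zero, ← sub_smul, smul_eq_zero,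
        sub_eq_zero] at hv
      exact hv.resolve_left hs1
    rw [this, finrank_bot, mul_zero]
    exact h.finrank_pos
  by_cases hcc : ∃ m : G, x * m * x⁻¹ * m⁻¹ ∈ Subgroup.center G ∧ x * m * x⁻¹ * m⁻¹ ≠ 1
  · obtain ⟨m, hm1, hm2⟩ := hcc
    exact half_of_central_commutator h hm1 hm2
  push Not at hcc
  -- a minimal non-central normal subgroup
  obtain ⟨M, hMmin⟩ := exists_minimal_of_wellFoundedLT
    (fun M : Subgroup G => M.Normal ∧ ¬ M ≤ Subgroup.center G)
    ⟨⊤, inferInstance, fun e => hxc (e (Subgroup.mem_top x))⟩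
  obtain ⟨hMn, hMc⟩ := hMmin.prop
  haveI := hMn
  have hmin : ∀ L : Subgroup G, L.Normal → L ≤ M → L ≠ M → L ≤ Subgroup.center G := by
    intro L hL hLM hne
    by_contra hc
    exact hne (hMmin.eq_of_le ⟨hL, hc⟩ hLM)
  have hxM : ∃ m ∈ M, x * m * x⁻¹ * m⁻¹ ∉ Subgroup.center G := by
    by_contra hcon
    push Not at hcon
    apply hMc
    haveI : (Subgroup.centralizer (M : Set G)).Normal := Subgroup.normal_centralizer
    have hx' : x ∈ Subgroup.centralizer (M : Set G) := Subgroup.mem_centralizer_iff.2 fun m hm => by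
      have h1 := hcc m (hcon m hm)
      calc m * x = (x * m * x⁻¹ * m⁻¹) * (m * x) := by rw [h1, one_mul]
        _ = x * m := by group
    have htop : (⊤ : Subgroup G) ≤ Subgroup.centralizer (M : Set G) := by
      rw [← h.gen]
      exact Subgroup.normalClosure_le_normal (Set.singleton_subset_iff.2 hx')
    intro m hm
    exact Subgroup.mem_center_iff.2 fun g =>
      (Subgroup.mem_centralizer_iff.1 (htop (Subgroup.mem_top g)) m hm).symm
  have hMM : ⁅M, M⁆ ≤ Subgroup.center G := by
    refine hmin _ inferInstance (Subgroup.commutator_le_left M M) fun e => hMc ?_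
    have hall : ∀ j : ℕ, M ≤ derivedSeries G j := by
      intro j
      induction j with
      | zero => rw [derivedSeries_zero]; exact le_top
      | succ j ih =>
        rw [derivedSeries_succ, ← e]
        exact Subgroup.commutator_mono ih ih
    obtain ⟨j, hj⟩ := (Group.isSolvable_def G).1 inferInstance
    exact (hall j).trans (hj ▸ bot_le)
  have hcomm : ∀ m ∈ M, ∀ n ∈ M, m * n * m⁻¹ * n⁻¹ ∈ Subgroup.center G := fun m hm n hn =>
    hMM (Subgroup.commutator_mem_commutator hm hn)
  set Z' := (Subgroup.center G).subgroupOf M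
  obtain ⟨q, hq, hqd⟩ := Nat.exists_prime_and_dvd (n := Z'.index) (fun e => hMc (by
    rwa [Subgroup.index_eq_one, Subgroup.subgroupOf_eq_top] at e))
  haveI := Fact.mk hq
  have hexp : ∀ m ∈ M, m ^ q ∈ Subgroup.center G := by
    let L : Subgroup G :=
      { carrier := {m | m ∈ M ∧ m ^ q ∈ Subgroup.center G}
        one_mem' := ⟨M.one_mem, by rw [one_pow]; exact one_mem _⟩
        mul_mem' := fun {a b} ha hb => ⟨M.mul_mem ha.1 hb.1, by
          rw [← QuotientGroup.eq_one_iff, QuotientGroup.mk_pow, QuotientGroup.mk_mul]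
          have h1 := (QuotientGroup.eq_one_iff _).2 (hcomm a ha.1 b hb.1)
          simp only [QuotientGroup.mk_mul, QuotientGroup.mk_inv] at h1
          have hab : Commute (a : G ⧸ Subgroup.center G) (b : G ⧸ Subgroup.center G) := by
            show (a : G ⧸ Subgroup.center G) * b = b * a
            calc (a : G ⧸ Subgroup.center G) * b
                = ((a : G ⧸ Subgroup.center G) * b * (a : G ⧸ Subgroup.center G)⁻¹ *
                    (b : G ⧸ Subgroup.center G)⁻¹) * (b * a) := by group
              _ = _ := by rw [h1, one_mul]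
          rw [hab.mul_pow, ← QuotientGroup.mk_pow, ← QuotientGroup.mk_pow,
            (QuotientGroup.eq_one_iff _).2 ha.2, (QuotientGroup.eq_one_iff _).2 hb.2, one_mul]⟩
        inv_mem' := fun {a} ha => ⟨M.inv_mem ha.1, by rw [inv_pow]; exact inv_mem ha.2⟩ }
    have hLn : L.Normal := ⟨fun m hm g => ⟨hMn.conj_mem m hm.1 g, by
      rw [conj_pow, Subgroup.mem_center_iff.1 hm.2 g, mul_inv_cancel_right]; exact hm.2⟩⟩
    have hLM : L = M := by
      by_contra hne
      obtain ⟨z, hz⟩ := exists_prime_orderOf_dvd_card' (G := M ⧸ Z') q hqd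
      obtain ⟨m, rfl⟩ := QuotientGroup.mk_surjective z
      have hmL : (m : G) ∈ L := ⟨m.2, by
        have h1 : m ^ q ∈ Z' := by
          rw [← QuotientGroup.eq_one_iff, QuotientGroup.mk_pow, ← hz, pow_orderOf_eq_one]
        simpa [Z', Subgroup.mem_subgroupOf] using h1⟩
      have h2 : (m : M ⧸ Z') = 1 :=
        (QuotientGroup.eq_one_iff m).2 (hmin L hLn (fun g hg => hg.1) hne hmL)
      rw [h2, orderOf_one] at hz
      exact hq.ne_one hz.symm
    intro m hm
    rw [← hLM] at hm
    exact hm.2
  by_cases hab : ∀ m ∈ M, ∀ n ∈ M, m * n = n * m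
  · -- the abelian case
    have he : ∀ m ∈ M, m ^ q = 1 := by
      let E : Subgroup G :=
        { carrier := {m | m ∈ M ∧ m ^ q = 1}
          one_mem' := ⟨M.one_mem, one_pow q⟩
          mul_mem' := fun {a b} ha hb => ⟨M.mul_mem ha.1 hb.1, by
            rw [Commute.mul_pow (hab a ha.1 b hb.1), ha.2, hb.2, one_mul]⟩
          inv_mem' := fun {a} ha => ⟨M.inv_mem ha.1, by rw [inv_pow, ha.2, inv_one]⟩ }
      have hle : ⁅(⊤ : Subgroup G), M⁆ ≤ E := by
        rw [Subgroup.commutator_le]
        intro g _ m hm
        rw [commutatorElement_def]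
        refine ⟨mul_mem (hMn.conj_mem m hm g) (inv_mem hm), ?_⟩
        rw [Commute.mul_pow (hab _ (hMn.conj_mem m hm g) _ (inv_mem hm)), conj_pow, inv_pow,
          Subgroup.mem_center_iff.1 (hexp m hm) g, mul_inv_cancel_right, mul_inv_cancel]
      have heq : ⁅(⊤ : Subgroup G), M⁆ = M := by
        by_contra hne
        obtain ⟨m, hm, hmc⟩ := hxM
        refine hmc (hmin _ inferInstance (Subgroup.commutator_le_right ⊤ M) hne ?_)
        exact Subgroup.commutator_mem_commutator (Subgroup.mem_top x) hm
      intro m hm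
      rw [← heq] at hm
      exact (hle hm).2
    refine half_of_abelian h M (q := q) hab he ?_
    obtain ⟨m, hm, hmc⟩ := hxM
    refine ⟨m, hm, fun e => hmc ?_⟩
    rw [e.eq, mul_inv_cancel_right, mul_inv_cancel]
    exact one_mem _
  push Not at hab
  have hS : Sympl ρ x M q :=
    { normal := hMn
      comm := hcomm
      expo := hexp
      nondeg := fun m hm hc => by
        haveI : (Subgroup.centralizer (M : Set G)).Normal := Subgroup.normal_centralizer
        refine hmin (M ⊓ Subgroup.centralizer (M : Set G)) (Subgroup.normal_inf_normal _ _) inf_le_left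
          (fun e => ?_) ⟨hm, Subgroup.mem_centralizer_iff.2 fun n hn => (hc n hn).symm⟩
        obtain ⟨a, ha, b, hb, hne⟩ := hab
        have hb' : b ∈ M ⊓ Subgroup.centralizer (M : Set G) := by rw [e]; exact hb
        exact hne (Subgroup.mem_centralizer_iff.1 hb'.2 a ha)
      nab := hab
      noCentral := hcc
      act := hxM }
  by_cases hpq : p = q
  · subst hpq
    exact half_of_same h hS
  · exact half_of_coprime h hS hpq

/-- The general statement. -/
theorem half {k : Type*} [Field k] {V : Type*} [AddCommGroup V] [Module k V] [FiniteDimensional k V]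
    (ρ : G →* End k V) (hinj : Function.Injective ρ)
    (hirr : ∀ W : Submodule k V, (∀ g, ∀ v ∈ W, ρ g v ∈ W) → W = ⊥ ∨ W = ⊤) [hV : Nontrivial V]
    (hx : orderOf x = p) (hgen : Subgroup.normalClosure {x} = ⊤) (hp3 : 3 < p) :
    2 * finrank k (End.eigenspace (ρ x) 1) < finrank k V := by
  classical
  set S : Set (End k V) := ρ '' (Subgroup.center G : Set G) with hS
  set K := Algebra.adjoin k S with hK
  have hcomm : ∀ a ∈ K, ∀ g : G, a * ρ g = ρ g * a := by
    intro a ha g
    induction ha using Algebra.adjoin_induction with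
    | mem s hs =>
      obtain ⟨z, hz, rfl⟩ := hs
      rw [← map_mul, ← map_mul, Subgroup.mem_center_iff.1 hz g]
    | algebraMap r => exact Algebra.commutes r (ρ g)
    | add a b _ _ iha ihb => rw [add_mul, mul_add, iha, ihb]
    | mul a b _ _ iha ihb => rw [mul_assoc, ihb, ← mul_assoc, iha, mul_assoc]
  have hKc : ∀ a ∈ K, ∀ b ∈ K, a * b = b * a := by
    intro a ha b hb
    induction hb using Algebra.adjoin_induction with
    | mem s hs => obtain ⟨z, hz, rfl⟩ := hs; exact hcomm a ha z
    | algebraMap r => exact (Algebra.commutes r a).symm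
    | add b c _ _ ihb ihc => rw [mul_add, add_mul, ihb, ihc]
    | mul b c _ _ ihb ihc => rw [← mul_assoc, ihb, mul_assoc, ihc, ← mul_assoc]
  have hfield : IsField K := by
    refine ⟨⟨0, 1, fun e => ?_⟩, fun a b => Subtype.ext (hKc a a.2 b b.2), fun {a} ha => ?_⟩
    · obtain ⟨v, hv⟩ := exists_ne (0 : V)
      exact hv (LinearMap.congr_fun (congrArg Subtype.val e) v).symm
    have hker : LinearMap.ker (a : End k V) = ⊥ := by
      refine (hirr _ fun g v hv => ?_).resolve_right fun e => ha (Subtype.ext (LinearMap.ext fun v => ?_))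
      · rw [LinearMap.mem_ker] at hv ⊢
        rw [← End.mul_apply, hcomm a a.2 g, End.mul_apply, hv, map_zero]
      · exact LinearMap.mem_ker.1 (e ▸ Submodule.mem_top : v ∈ LinearMap.ker (a : End k V))
    have hinjL : Function.Injective (LinearMap.mulLeft k a : K →ₗ[k] K) := fun b c e =>
      Subtype.ext (LinearMap.ext fun v => LinearMap.ker_eq_bot.1 hker
        (LinearMap.congr_fun (congrArg Subtype.val e) v))
    obtain ⟨b, hb⟩ := LinearMap.injective_iff_surjective.1 hinjL 1
    exact ⟨b, hb⟩
  letI : Field K := hfield.toField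
  haveI : FiniteDimensional K V := Module.Finite.of_restrictScalars_finite k K V
  let ρ' : G →* End K V :=
    { toFun := fun g =>
        { toFun := ρ g
          map_add' := map_add (ρ g)
          map_smul' := fun a v => by
            show ρ g ((a : End k V) v) = (a : End k V) (ρ g v)
            rw [← End.mul_apply, ← hcomm a a.2 g, End.mul_apply] }
      map_one' := LinearMap.ext fun v => rho_one v
      map_mul' := fun g g' => LinearMap.ext fun v => rho_mul g g' v }
  have hset : Setup ρ' x p :=
    { inj := fun g g' e => hinj (LinearMap.ext fun v => (LinearMap.congr_fun e v :))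
      irr := fun W hW => by
        rcases hirr (W.restrictScalars k) hW with e | e
        · exact Or.inl ((Submodule.restrictScalars_eq_bot_iff k K V).1 e)
        · exact Or.inr ((Submodule.restrictScalars_eq_top_iff k K V).1 e)
      nt := hV
      scal := fun z hz => ⟨⟨ρ z, Algebra.subset_adjoin ⟨z, hz, rfl⟩⟩, LinearMap.ext fun v => rfl⟩
      ord := hx
      gen := hgen
      big := hp3 }
  have hmain := half_of_setup hset
  have hres : (End.eigenspace (ρ' x) 1).restrictScalars k = End.eigenspace (ρ x) 1 := by
    ext v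
    simp only [Submodule.restrictScalars_mem, End.mem_eigenspace_iff, one_smul]
    rfl
  have h1 : finrank k (End.eigenspace (ρ x) 1) = finrank k K * finrank K (End.eigenspace (ρ' x) 1) := by
    rw [← hres, finrank_mul_finrank k K (End.eigenspace (ρ' x) 1)]
    rfl
  have h2 : finrank k V = finrank k K * finrank K V := (finrank_mul_finrank k K V).symm
  rw [h1, h2, mul_left_comm]
  exact Nat.mul_lt_mul_of_pos_left hmain (Module.finrank_pos)

/-- The version for representations. -/
theorem half_rep {k : Type*} [Field k] {V : Type*} [AddCommGroup V] [Module k V] [FiniteDimensional k V]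
    (ρ : Representation k G V) [ρ.IsIrreducible] (hinj : Function.Injective ρ) (P : Subgroup G)
    (hP : Nat.card P = p) (hgen : Subgroup.normalClosure (P : Set G) = ⊤) (hp3 : 3 < p) :
    2 * finrank k ↥(⨅ g : ↥P, LinearMap.ker (ρ (g : G) - LinearMap.id)) < finrank k V := by
  classical
  haveI : Fact (Nat.card P).Prime := ⟨by rw [hP]; exact hp.out⟩
  haveI : Nontrivial P := Finite.one_lt_card_iff_nontrivial.1 (by rw [hP]; exact hp.out.one_lt)
  obtain ⟨g, hg1⟩ := exists_ne (1 : P)
  have hz : Subgroup.zpowers (g : G) = P := by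
    have h1 : Subgroup.zpowers g = ⊤ := (Subgroup.eq_bot_or_eq_top_of_prime_card _).resolve_left
      (fun e => hg1 (Subgroup.zpowers_eq_bot.1 e))
    have h2 := congrArg (Subgroup.map P.subtype) h1
    rw [MonoidHom.map_zpowers, ← MonoidHom.range_eq_map, Subgroup.range_subtype] at h2
    exact h2
  have hord : orderOf (g : G) = p := by rw [← Nat.card_zpowers, hz, hP]
  have hgen' : Subgroup.normalClosure {(g : G)} = ⊤ := by
    rw [eq_top_iff, ← hgen]
    refine Subgroup.normalClosure_le_normal fun a ha => ?_
    have h1 : Subgroup.zpowers (g : G) ≤ Subgroup.normalClosure {(g : G)} :=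
      Subgroup.zpowers_le.2 (Subgroup.subset_normalClosure rfl)
    exact h1 (hz.symm ▸ ha)
  have hirr : ∀ W : Submodule k V, (∀ a, ∀ v ∈ W, ρ a v ∈ W) → W = ⊥ ∨ W = ⊤ := by
    intro W hW
    rcases eq_bot_or_eq_top (α := Subrepresentation ρ) ⟨W, fun a v hv => hW a v hv⟩ with e | e
    · exact Or.inl (congrArg Subrepresentation.toSubmodule e)
    · exact Or.inr (congrArg Subrepresentation.toSubmodule e)
  haveI : Nontrivial V := by
    by_contra hnt
    rw [not_nontrivial_iff_subsingleton] at hnt
    refine (bot_ne_top (α := Subrepresentation ρ)) ?_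
    apply Subrepresentation.toSubmodule_injective
    exact Subsingleton.elim _ _
  have heq : (⨅ a : ↥P, LinearMap.ker (ρ (a : G) - LinearMap.id)) = End.eigenspace (ρ (g : G)) 1 := by
    ext v
    simp only [Submodule.mem_iInf, LinearMap.mem_ker, LinearMap.sub_apply, LinearMap.id_apply,
      sub_eq_zero, End.mem_eigenspace_iff, one_smul]
    refine ⟨fun hall => hall g, fun hv a => ?_⟩
    have hm := fixS_zpowers (ρ := (ρ : G →* End k V)) hv
    exact hm a (hz.symm ▸ a.2)
  rw [heq]
  exact half (x := (g : G)) ρ hinj hirr hord hgen' hp3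

end CfsgLib.PGroup.FixedHalf
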