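import Cfsg.Agent.Lib.PGroup.FixedHalf.Abelian
import Mathlib.Algebra.Field.GeomSum

/-!
# Fixed points: a minimal non-central normal subgroup which is non-abelian

Its commutators are scalars and give a non-degenerate pairing modulo the center.
-/

set_option autoImplicit false
set_option linter.style.haveILetI false
set_option linter.unusedSectionVars false

namespace CfsgLib.PGroup.FixedHalf

open Module

universe u

variable {G : Type u} [Group G] [Finite G] {k : Type*} [Field k] {V : Type*} [AddCommGroup V]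
  [Module k V] [FiniteDimensional k V] {p : ℕ} [hp : Fact p.Prime] {ρ : G →* End k V} {x : G}

theorem scalar_unique [hV : Nontrivial V] {z : G} {s t : k} (hs : ρ z = s • 1) (ht : ρ z = t • 1) :
    s = t := by
  obtain ⟨v, hv⟩ := exists_ne (0 : V)
  exact smul_left_injective k hv ((scal_commute hs v).symm.trans (scal_commute ht v))

/-- The data of the non-abelian case. -/
structure Sympl (ρ : G →* End k V) (x : G) (M : Subgroup G) (q : ℕ) : Prop where
  normal : M.Normal
  comm : ∀ m ∈ M, ∀ n ∈ M, m * n * m⁻¹ * n⁻¹ ∈ Subgroup.center G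
  expo : ∀ m ∈ M, m ^ q ∈ Subgroup.center G
  nondeg : ∀ m ∈ M, (∀ n ∈ M, m * n = n * m) → m ∈ Subgroup.center G
  nab : ∃ m ∈ M, ∃ n ∈ M, m * n ≠ n * m
  noCentral : ∀ m : G, x * m * x⁻¹ * m⁻¹ ∈ Subgroup.center G → x * m * x⁻¹ * m⁻¹ = 1
  act : ∃ m ∈ M, x * m * x⁻¹ * m⁻¹ ∉ Subgroup.center G

variable {M : Subgroup G} {q : ℕ}

theorem Sympl.exists_beta (hM : Sympl ρ x M q) (h : Setup ρ x p) :
    ∃ β : G → G → k, (∀ m ∈ M, ∀ n ∈ M, ρ m * ρ n = β m n • (ρ n * ρ m)) ∧
      (∀ m ∈ M, ∀ n ∈ M, β m n = 1 → m * n = n * m) ∧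
      (∀ m ∈ M, ∀ n ∈ M, m * n = n * m → β m n = 1) ∧
      (∀ m ∈ M, ∀ m' ∈ M, ∀ n ∈ M, β (m * m') n = β m n * β m' n) ∧
      (∀ m ∈ M, ∀ n ∈ M, ∀ n' ∈ M, β m (n * n') = β m n * β m n') ∧
      (∀ m ∈ M, ∀ n ∈ M, β (x * m * x⁻¹) (x * n * x⁻¹) = β m n) ∧
      ∀ m ∈ M, ∀ n ∈ M, β m n ^ q = 1 := by
  classical
  haveI := h.nt
  haveI := hM.normal
  let sc : G → k := fun z => if hz : z ∈ Subgroup.center G then (h.scal z hz).choose else 1
  have hsc : ∀ z ∈ Subgroup.center G, ρ z = sc z • 1 := fun z hz => by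
    simp only [sc, dif_pos hz]
    exact (h.scal z hz).choose_spec
  have hmul : ∀ z ∈ Subgroup.center G, ∀ w ∈ Subgroup.center G, sc (z * w) = sc z * sc w := by
    intro z hz w hw
    refine scalar_unique (hsc _ (mul_mem hz hw)) ?_
    rw [map_mul, hsc z hz, hsc w hw, smul_mul_smul_comm, mul_one]
  have hone : sc 1 = 1 := scalar_unique (hsc 1 (one_mem _)) (by rw [map_one, one_smul])
  have hz : ∀ {z : G} (_ : z ∈ Subgroup.center G) (g : G), g * z * g⁻¹ = z := fun hz g => by
    rw [Subgroup.mem_center_iff.1 hz g, mul_inv_cancel_right]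
  refine ⟨fun m n => sc (m * n * m⁻¹ * n⁻¹), ?_, ?_, ?_, ?_, ?_, ?_, ?_⟩
  · intro m hm n hn
    rw [← map_mul, ← map_mul, show m * n = (m * n * m⁻¹ * n⁻¹) * (n * m) by group, map_mul,
      hsc _ (hM.comm m hm n hn), smul_mul_assoc, one_mul]
  · intro m hm n hn e
    have h1 := h.scal_inj (hsc _ (hM.comm m hm n hn)) e
    calc m * n = (m * n * m⁻¹ * n⁻¹) * (n * m) := by group
      _ = _ := by rw [h1, one_mul]
  · intro m hm n hn e
    show sc (m * n * m⁻¹ * n⁻¹) = 1
    rw [e, mul_inv_cancel_right, mul_inv_cancel, hone]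
  · intro m hm m' hm' n hn
    show sc (m * m' * n * (m * m')⁻¹ * n⁻¹) = _
    rw [show m * m' * n * (m * m')⁻¹ * n⁻¹ =
      m * (m' * n * m'⁻¹ * n⁻¹) * m⁻¹ * (m * n * m⁻¹ * n⁻¹) by group,
      hz (hM.comm m' hm' n hn) m, hmul _ (hM.comm m' hm' n hn) _ (hM.comm m hm n hn), mul_comm]
  · intro m hm n hn n' hn'
    show sc (m * (n * n') * m⁻¹ * (n * n')⁻¹) = _
    rw [show m * (n * n') * m⁻¹ * (n * n')⁻¹ =
      (m * n * m⁻¹ * n⁻¹) * (n * (m * n' * m⁻¹ * n'⁻¹) * n⁻¹) by group,
      hz (hM.comm m hm n' hn') n, hmul _ (hM.comm m hm n hn) _ (hM.comm m hm n' hn')]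
  · intro m hm n hn
    show sc _ = sc _
    rw [show x * m * x⁻¹ * (x * n * x⁻¹) * (x * m * x⁻¹)⁻¹ * (x * n * x⁻¹)⁻¹ =
      x * (m * n * m⁻¹ * n⁻¹) * x⁻¹ by group, hz (hM.comm m hm n hn) x]
  · intro m hm n hn
    have hpow : ∀ j : ℕ, m ^ j * n = (m * n * m⁻¹ * n⁻¹) ^ j * (n * m ^ j) := by
      intro j
      induction j with
      | zero => simp
      | succ j ih =>
        rw [pow_succ' m, mul_assoc m, ih, ← mul_assoc m,
          Subgroup.mem_center_iff.1 (pow_mem (hM.comm m hm n hn) j) m, pow_succ (m * n * m⁻¹ * n⁻¹)]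
        group
    have h1 := hpow q
    rw [← Subgroup.mem_center_iff.1 (hM.expo m hm) n, right_eq_mul] at h1
    exact scal_pow h.nt (hsc _ (hM.comm m hm n hn)) h1

theorem Sympl.conj_mem (hM : Sympl ρ x M q) (g : G) {m : G} (hm : m ∈ M) : g * m * g⁻¹ ∈ M :=
  hM.normal.conj_mem m hm g

/-- The subgroup of elements of `M` centralized by `x` modulo the center. -/
theorem Sympl.exists_fixed (hM : Sympl ρ x M q) :
    ∃ F : Subgroup G, F ≤ M ∧ ∀ m, m ∈ F ↔ m ∈ M ∧ x * m * x⁻¹ * m⁻¹ ∈ Subgroup.center G := by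
  refine ⟨{ carrier := {m | m ∈ M ∧ x * m * x⁻¹ * m⁻¹ ∈ Subgroup.center G}
            one_mem' := ⟨M.one_mem, by simp⟩
            mul_mem' := fun {a b} ha hb => ⟨M.mul_mem ha.1 hb.1, by
              rw [show x * (a * b) * x⁻¹ * (a * b)⁻¹ =
                (x * a * x⁻¹ * a⁻¹) * (a * (x * b * x⁻¹ * b⁻¹) * a⁻¹) by group,
                hM.noCentral a ha.2, hM.noCentral b hb.2]
              simp⟩
            inv_mem' := fun {a} ha => ⟨M.inv_mem ha.1, by
              rw [show x * a⁻¹ * x⁻¹ * a⁻¹⁻¹ = a⁻¹ * (x * a * x⁻¹ * a⁻¹)⁻¹ * a by group,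
                hM.noCentral a ha.2]
              simp⟩ }, fun m hm => hm.1, fun m => Iff.rfl⟩

/-- The case of equal primes. -/
theorem half_of_same (h : Setup ρ x p) (hM : Sympl ρ x M p) :
    2 * finrank k (End.eigenspace (ρ x) 1) < finrank k V := by
  classical
  haveI := h.nt
  obtain ⟨β, hβ, hβ1, hβc, hβl, hβr, -, hβq⟩ := hM.exists_beta h
  obtain ⟨F, hFM, hF⟩ := hM.exists_fixed
  have hxp : x ^ p = 1 := by rw [← h.ord]; exact pow_orderOf_eq_one x
  -- an element `e` with `[x, e]` fixed and non-central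
  obtain ⟨e, heM, heF, hecF⟩ : ∃ e ∈ M, e ∉ F ∧ x * e * x⁻¹ * e⁻¹ ∈ F := by
    haveI := hM.normal
    have hxN : x ∈ Subgroup.normalizer (F : Set G) := Subgroup.mem_normalizer_fintype fun f hf => by
      obtain ⟨hfM, hfc⟩ := (hF f).1 hf
      have h1 := hM.noCentral f hfc
      have h2 : x * f * x⁻¹ = f := by
        calc x * f * x⁻¹ = (x * f * x⁻¹ * f⁻¹) * f := by group
          _ = f := by rw [h1, one_mul]
      show x * f * x⁻¹ ∈ F
      rw [h2]; exact hf
    -- the `p`-group `⟨x⟩` acts on the cosets of `F` in `M`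
    let X := M ⧸ F.subgroupOf M
    let σ : Equiv.Perm X :=
      { toFun := Quotient.map' (fun m => ⟨x * m * x⁻¹, hM.conj_mem x m.2⟩) fun a b hab => by
          rw [QuotientGroup.leftRel_apply, Subgroup.mem_subgroupOf] at hab ⊢
          simp only [Subgroup.coe_mul, Subgroup.coe_inv] at hab ⊢
          rw [show (x * a.1 * x⁻¹)⁻¹ * (x * b.1 * x⁻¹) = x * (a.1⁻¹ * b.1) * x⁻¹ by group]
          exact (Subgroup.mem_normalizer_iff.1 hxN _).1 hab
        invFun := Quotient.map' (fun m => ⟨x⁻¹ * m * x⁻¹⁻¹, hM.conj_mem x⁻¹ m.2⟩) fun a b hab => by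
          rw [QuotientGroup.leftRel_apply, Subgroup.mem_subgroupOf] at hab ⊢
          simp only [Subgroup.coe_mul, Subgroup.coe_inv] at hab ⊢
          rw [show (x⁻¹ * a.1 * x⁻¹⁻¹)⁻¹ * (x⁻¹ * b.1 * x⁻¹⁻¹) = x⁻¹ * (a.1⁻¹ * b.1) * x⁻¹⁻¹ by group]
          exact (Subgroup.mem_normalizer_iff.1 (inv_mem hxN) _).1 hab
        left_inv := fun c => by
          induction c using Quotient.inductionOn' with
          | h a => exact congrArg Quotient.mk'' (Subtype.ext (by simp [mul_assoc]))
        right_inv := fun c => by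
          induction c using Quotient.inductionOn' with
          | h a => exact congrArg Quotient.mk'' (Subtype.ext (by simp [mul_assoc])) }
    have hσn : ∀ n : ℕ, ∀ m : M, (σ ^ n) (Quotient.mk'' m) =
        Quotient.mk'' (⟨x ^ n * m * (x ^ n)⁻¹, hM.conj_mem _ m.2⟩ : M) := by
      intro n
      induction n with
      | zero => intro m; simp
      | succ n ih =>
        intro m
        rw [pow_succ', Equiv.Perm.mul_apply, ih]
        exact congrArg Quotient.mk'' (Subtype.ext (by rw [pow_succ']; group))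
    have hσp : σ ^ p = 1 := Equiv.ext fun c => by
      induction c using Quotient.inductionOn' with
      | h a =>
        rw [hσn, Equiv.Perm.one_apply]
        exact congrArg Quotient.mk'' (Subtype.ext (by simp [hxp]))
    have hP : IsPGroup p (Subgroup.zpowers σ) := by
      rintro ⟨g, i, rfl⟩
      exact ⟨1, Subtype.ext (by
        show (σ ^ i) ^ (p ^ 1) = 1
        rw [pow_one, ← zpow_natCast, ← zpow_mul, mul_comm, zpow_mul, zpow_natCast, hσp, one_zpow])⟩
    have hpdvd : p ∣ Nat.card X := by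
      have hpg : ∀ m : M, (m : G) ^ p ∈ F := fun m => (hF _).2 ⟨pow_mem m.2 p, by
        have h1 : x * (m : G) ^ p * x⁻¹ = (m : G) ^ p := by
          rw [Subgroup.mem_center_iff.1 (hM.expo m m.2) x, mul_inv_cancel_right]
        rw [h1, mul_inv_cancel]
        exact one_mem _⟩
      haveI : (F.subgroupOf M).Normal := by
        refine ⟨fun f hf m => ?_⟩
        rw [Subgroup.mem_subgroupOf] at hf ⊢
        simp only [Subgroup.coe_mul, Subgroup.coe_inv]
        have hc := hM.comm m m.2 f f.2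
        have hcF : (m : G) * f * (m : G)⁻¹ * (f : G)⁻¹ ∈ F := (hF _).2 ⟨mul_mem (hM.conj_mem _ f.2)
          (inv_mem f.2), by
            rw [Subgroup.mem_center_iff.1 hc x, mul_inv_cancel_right, mul_inv_cancel]
            exact one_mem _⟩
        have := mul_mem hcF hf
        rwa [inv_mul_cancel_right] at this
      obtain ⟨n, hn⟩ := IsPGroup.iff_card.1 (show IsPGroup p (M ⧸ F.subgroupOf M) from fun c => by
        obtain ⟨m, rfl⟩ := QuotientGroup.mk_surjective c
        exact ⟨1, by rw [pow_one, ← QuotientGroup.mk_pow, QuotientGroup.eq_one_iff,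
          Subgroup.mem_subgroupOf]; exact hpg m⟩)
      show p ∣ Nat.card (M ⧸ F.subgroupOf M)
      rw [hn]
      refine dvd_pow_self p fun e0 => ?_
      rw [e0, pow_zero, Nat.card_eq_one_iff_unique] at hn
      obtain ⟨m, hm, hmc⟩ := hM.act
      have hmF := QuotientGroup.eq.1 (hn.1.elim ((1 : M) : M ⧸ F.subgroupOf M) ((⟨m, hm⟩ : M)))
      rw [Subgroup.mem_subgroupOf] at hmF
      exact hmc ((hF m).1 (by simpa using hmF)).2
    have hfix1 : (Quotient.mk'' (1 : M) : X) ∈ MulAction.fixedPoints (Subgroup.zpowers σ) X := by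
      rintro ⟨g, hg⟩
      obtain ⟨n, rfl⟩ := (isOfFinOrder_of_finite σ).mem_powers_iff_mem_zpowers.2 hg
      show (σ ^ n) _ = _
      rw [hσn]
      exact congrArg Quotient.mk'' (Subtype.ext (by simp))
    obtain ⟨c, hc, hne⟩ := hP.exists_fixed_point_of_prime_dvd_card_of_fixed_point X hpdvd hfix1
    obtain ⟨m, rfl⟩ := QuotientGroup.mk_surjective c
    have h1 : σ (Quotient.mk'' m) = Quotient.mk'' m := hc ⟨σ, Subgroup.mem_zpowers σ⟩
    have h2 := Quotient.exact h1
    refine ⟨m, m.2, fun hm => hne ?_, ?_⟩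
    · refine Quotient.sound' ?_
      rw [QuotientGroup.leftRel_apply, Subgroup.mem_subgroupOf]
      simpa using hm
    · have h3 := QuotientGroup.leftRel_apply.1 h2
      rw [Subgroup.mem_subgroupOf] at h3
      simp only [Subgroup.coe_mul, Subgroup.coe_inv] at h3
      obtain ⟨hwM, hwc⟩ := (hF _).1 (inv_mem h3)
      refine (hF _).2 ⟨mul_mem (hM.conj_mem x m.2) (inv_mem m.2), ?_⟩
      -- `[x, m]` is conjugate to `m⁻¹ [x, m] m`
      have e1 : ((x * (m : G) * x⁻¹)⁻¹ * m)⁻¹ = (m : G)⁻¹ * (x * m * x⁻¹ * (m : G)⁻¹) * m := by group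
      rw [e1] at hwc hwM
      set c' := x * (m : G) * x⁻¹ * (m : G)⁻¹ with hc'
      have hcomm := hM.comm (m : G)⁻¹ (inv_mem m.2) c' (mul_mem (hM.conj_mem x m.2) (inv_mem m.2))
      rw [show (m : G)⁻¹ * c' * m = ((m : G)⁻¹ * c' * (m : G)⁻¹⁻¹ * c'⁻¹) * c' by group] at hwc
      set z := (m : G)⁻¹ * c' * (m : G)⁻¹⁻¹ * c'⁻¹
      have e2 : x * (z * c') * x⁻¹ * (z * c')⁻¹ = x * c' * x⁻¹ * c'⁻¹ := by
        calc x * (z * c') * x⁻¹ * (z * c')⁻¹ = (x * z) * c' * x⁻¹ * c'⁻¹ * z⁻¹ := by group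
          _ = z * (x * c' * x⁻¹ * c'⁻¹) * z⁻¹ := by rw [Subgroup.mem_center_iff.1 hcomm x]; group
          _ = _ := by rw [← Subgroup.mem_center_iff.1 hcomm, mul_inv_cancel_right]
      rwa [e2] at hwc
  -- the fixed element
  obtain ⟨c, hcdef⟩ : ∃ c, c = x * e * x⁻¹ * e⁻¹ := ⟨_, rfl⟩
  rw [← hcdef] at hecF
  obtain ⟨hcM, hcc⟩ := (hF c).1 hecF
  have hxc : x * c = c * x := by
    calc x * c = (x * c * x⁻¹ * c⁻¹) * (c * x) := by group
      _ = c * x := by rw [hM.noCentral c hcc, one_mul]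
  have hxe : x * e = c * e * x := by rw [hcdef]; group
  have hcZ : c ∉ Subgroup.center G := fun hz => heF ((hF e).2 ⟨heM, hcdef ▸ hz⟩)
  have hpow : ∀ n : ℕ, x ^ n * e = c ^ n * e * x ^ n := by
    intro n
    induction n with
    | zero => simp
    | succ n ih =>
      rw [pow_succ' x, mul_assoc x, ih, ← mul_assoc x, ← mul_assoc x,
        ((show Commute x c from hxc).pow_right n).eq, mul_assoc (c ^ n) x e, hxe, pow_succ c]
      group
  have hcp : c ^ p = 1 := by
    have := hpow p
    rw [hxp, one_mul, mul_one] at this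
    exact mul_right_cancel (b := e) (by rw [one_mul, ← this])
  -- the eigenspaces of `c`
  obtain ⟨m, hm, s, hs, hs1, hcm, hor⟩ : ∃ m ∈ M, ∃ s : k, s ^ p = 1 ∧ s ≠ 1 ∧
      ρ c * ρ m = s • (ρ m * ρ c) ∧ (β c e ≠ 1 → m = e) := by
    by_cases hce : β c e = 1
    · obtain ⟨n, hn, hne⟩ : ∃ n ∈ M, c * n ≠ n * c := by
        by_contra hcon
        push Not at hcon
        exact hcZ (hM.nondeg c hcM hcon)
      exact ⟨n, hn, β c n, hβq c hcM n hn, fun e1 => hne (hβ1 c hcM n hn e1), hβ c hcM n hn,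
        fun hh => absurd hce hh⟩
    · exact ⟨e, heM, β c e, hβq c hcM e heM, hce, hβ c hcM e heM, fun _ => rfl⟩
  have hpk : (p : k) ≠ 0 := by
    intro e0
    haveI : CharP k p := (CharP.charP_iff_prime_eq_zero hp.out).2 e0
    exact hs1 (sub_eq_zero.1 (pow_eq_zero_iff hp.out.ne_zero |>.1 (by
      rw [sub_pow_char, hs, one_pow, sub_self])))
  let E : Fin p → Submodule k V := fun j => End.eigenspace (ρ c) (s ^ (j : ℕ))
  have hinj := pow_injective_of_order hs hs1
  have hV0 : p * finrank k (End.eigenspace (ρ c) 1) ≤ finrank k V := by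
    have h1 := shift_le (ρ c) (ρ m) ⊤ hs hs1 (rho_injective m) (fun _ _ => Submodule.mem_top)
      (fun v _ => by
        have := LinearMap.congr_fun hcm v
        simpa using this)
    rwa [top_inf_eq, finrank_top] at h1
  have hEsum : ∑ j : Fin p, finrank k (E j) ≤ finrank k V := by
    have := sum_eigen_le (ρ c) (fun j : Fin p => s ^ (j : ℕ)) hinj ⊤
    refine le_trans (le_of_eq (Finset.sum_congr rfl fun j _ => ?_)) (this.trans (le_of_eq (finrank_top k V)))
    rw [top_inf_eq]
  set C := End.eigenspace (ρ x) 1 with hC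
  have hCx : ∀ v ∈ C, ρ x v = v := fun v hv => by rw [End.mem_eigenspace_iff.1 hv, one_smul]
  -- projections to the eigenspaces
  let P : Fin p → End k V := fun j =>
    (p : k)⁻¹ • ∑ i : Fin p, (s ^ ((i : ℕ) * (p - (j : ℕ)))) • ρ (c ^ (i : ℕ))
  have hPsum : ∀ v, ∑ j, P j v = v := by
    intro v
    simp only [P, LinearMap.smul_apply, LinearMap.sum_apply]
    rw [← Finset.smul_sum, Finset.sum_comm]
    rw [Finset.sum_eq_single_of_mem (⟨0, hp.out.pos⟩ : Fin p) (Finset.mem_univ _) fun i _ hi => ?_]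
    · simp only [zero_mul, pow_zero, one_smul, map_one, End.one_apply, Finset.sum_const,
        Finset.card_univ, Fintype.card_fin]
      rw [← Nat.cast_smul_eq_nsmul k, smul_smul, inv_mul_cancel₀ hpk, one_smul]
    rw [← Finset.sum_smul]
    have hi0 : (i : ℕ) ≠ 0 := fun e0 => hi (Fin.ext e0)
    have hsi : s ^ (i : ℕ) ≠ 1 := fun e0 => hi0 (by
      have := orderOf_dvd_of_pow_eq_one e0
      rw [orderOf_eq_prime hs hs1] at this
      exact Nat.eq_zero_of_dvd_of_lt this i.2)
    have hre : ∑ j : Fin p, s ^ ((i : ℕ) * (p - (j : ℕ))) = ∑ j ∈ Finset.range p, (s ^ (i : ℕ)) ^ j := by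
      rw [← Fin.sum_univ_eq_sum_range (fun j => (s ^ (i : ℕ)) ^ j)]
      refine Fintype.sum_equiv (Equiv.neg _) _ _ fun j => ?_
      rw [← pow_mul, Equiv.neg_apply, Fin.val_neg, pow_mul, pow_mul]
      rw [← pow_mod_orderOf (s ^ (i : ℕ)) (p - (j : ℕ)),
        orderOf_eq_prime (by rw [← pow_mul, mul_comm, pow_mul, hs, one_pow]) hsi]
      split_ifs with hj
      · simp [hj]
      · rw [Nat.mod_eq_of_lt (by have := Fin.val_ne_zero_iff.2 hj; omega)]
    rw [hre, geom_sum_eq hsi, ← pow_mul, mul_comm, pow_mul, hs, one_pow, sub_self, zero_div, zero_smul]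
  have hPE : ∀ j, ∀ v ∈ C, P j v ∈ C ⊓ E j := by
    intro j v hv
    refine ⟨End.mem_eigenspace_iff.2 ?_, End.mem_eigenspace_iff.2 ?_⟩
    · simp only [P, LinearMap.smul_apply, LinearMap.sum_apply, map_smul, map_sum, one_smul]
      congr 1
      refine Finset.sum_congr rfl fun i _ => ?_
      rw [← rho_mul, ((show Commute x c from hxc).pow_right _).eq, rho_mul, hCx v hv]
    · simp only [P, LinearMap.smul_apply, LinearMap.sum_apply, map_smul, map_sum]
      rw [smul_comm (s ^ (j : ℕ)), Finset.smul_sum (r := s ^ (j : ℕ))]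
      congr 1
      haveI : NeZero p := ⟨hp.out.ne_zero⟩
      refine Fintype.sum_equiv (Equiv.addRight (1 : Fin p)) _ _ fun i => ?_
      rw [← rho_mul, ← pow_succ', smul_smul, Equiv.coe_addRight]
      have e1 : ((i + 1 : Fin p) : ℕ) = ((i : ℕ) + 1) % p := by
        rw [Fin.val_add]
        simp [Fin.val_one', Nat.add_mod]
      have e2 : c ^ ((i + 1 : Fin p) : ℕ) = c ^ ((i : ℕ) + 1) := by
        rw [e1, ← pow_eq_pow_mod _ hcp]
      have e3 : s ^ ((j : ℕ) + ((i + 1 : Fin p) : ℕ) * (p - j)) = s ^ ((i : ℕ) * (p - j)) := by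
        rw [e1, pow_add, pow_mul (s), ← pow_eq_pow_mod _ hs, ← pow_mul, ← pow_add, pow_eq_pow_mod _ hs,
          pow_eq_pow_mod (((i : ℕ) * (p - j))) hs]
        congr 1
        have hj := j.2
        rw [add_mul, one_mul, show (j : ℕ) + ((i : ℕ) * (p - j) + (p - j)) = (i : ℕ) * (p - j) + p by omega,
          Nat.add_mod_right]
      rw [e2, ← pow_add, e3]
  have hCle := finrank_le_sum P hPsum C (fun j => C ⊓ E j) hPE
  refine half_of_le_two h.four_lt h.finrank_pos ?_
  have hE0 : E ⟨0, hp.out.pos⟩ = End.eigenspace (ρ c) 1 := by simp [E]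
  by_cases hce : β c e = 1
  · -- `e` commutes with `c`
    have hcom : c * e = e * c := hβ1 c hcM e heM hce
    have hj : ∀ j : Fin p, (j : ℕ) ≠ 0 →
        p * finrank k (C ⊓ E j : Submodule k V) ≤ finrank k (E j) := by
      intro j hj0
      refine le_trans (le_of_eq ?_) (shift_le (ρ x) (ρ e) (E j) (s := s ^ (j : ℕ))
        (by rw [← pow_mul, mul_comm, pow_mul, hs, one_pow]) (fun e0 => hj0 (congrArg Fin.val
          (hinj (a₁ := j) (a₂ := (⟨0, hp.out.pos⟩ : Fin p)) (by simpa using e0)))) (rho_injective e)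
        (fun v hv => ?_) fun v hv => ?_)
      · rw [inf_comm]
      · refine End.mem_eigenspace_iff.2 ?_
        rw [← rho_mul, hcom, rho_mul, End.mem_eigenspace_iff.1 hv, map_smul]
      · rw [← rho_mul, hxe, hcom, mul_assoc, rho_mul, rho_mul]
        have hxv : ρ x v ∈ E j := End.mem_eigenspace_iff.2 (by
          rw [← rho_mul, ← hxc, rho_mul, End.mem_eigenspace_iff.1 hv, map_smul])
        rw [End.mem_eigenspace_iff.1 hxv, map_smul]
    calc p * finrank k C ≤ p * ∑ j, finrank k (C ⊓ E j : Submodule k V) := Nat.mul_le_mul_left _ hCle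
      _ = ∑ j, p * finrank k (C ⊓ E j : Submodule k V) := Finset.mul_sum _ _ _
      _ ≤ ∑ j, (finrank k (E j) +
            if (j : ℕ) = 0 then p * finrank k (End.eigenspace (ρ c) 1) else 0) := by
          refine Finset.sum_le_sum fun j _ => ?_
          by_cases hj0 : (j : ℕ) = 0
          · rw [if_pos hj0]
            have : j = ⟨0, hp.out.pos⟩ := Fin.ext hj0
            subst this
            rw [← hE0]
            exact le_add_of_le_right (Nat.mul_le_mul_left _ (Submodule.finrank_mono inf_le_right))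
          · rw [if_neg hj0, add_zero]; exact hj j hj0
      _ ≤ 2 * finrank k V := by
          rw [Finset.sum_add_distrib, Finset.sum_eq_single_of_mem (⟨0, hp.out.pos⟩ : Fin p)
            (Finset.mem_univ _) (fun j _ hj => if_neg fun h0 => hj (Fin.ext h0)), if_pos rfl]
          omega
  · rw [hor hce] at hcm
    -- `e` rotates the eigenspaces
    have hcU : ∀ n : ℕ, ∀ w ∈ End.eigenspace (ρ c) 1,
        ρ c (ρ (e ^ n) w) = s ^ n • ρ (e ^ n) w := by
      intro n w hw
      induction n with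
      | zero => simpa using End.mem_eigenspace_iff.1 hw
      | succ n ih =>
        rw [pow_succ', rho_mul]
        have h1 := LinearMap.congr_fun hcm (ρ (e ^ n) w)
        simp only [End.mul_apply, LinearMap.smul_apply] at h1
        rw [h1, ih, map_smul, smul_smul, pow_succ']
    -- triangular numbers
    let T : ℕ → ℕ := fun j => j * (j + 1) / 2
    have hT : ∀ j, 2 * T j = j * (j + 1) := fun j => Nat.mul_div_cancel' (Nat.even_mul_succ_self j).two_dvd
    have hxU : ∀ n : ℕ, ∀ w ∈ End.eigenspace (ρ c) 1,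
        ρ x (ρ (e ^ n) w) = s ^ T n • ρ (e ^ n) (ρ x w) := by
      intro n w hw
      induction n with
      | zero => simp [T]
      | succ n ih =>
        have hxw : ρ x w ∈ End.eigenspace (ρ c) 1 := End.mem_eigenspace_iff.2 (by
          rw [← rho_mul, ← hxc, rho_mul, End.mem_eigenspace_iff.1 hw, map_smul])
        have hTs : T (n + 1) = T n + (n + 1) := by
          have h1 := hT n
          have h2 := hT (n + 1)
          have : (n + 1) * (n + 1 + 1) = n * (n + 1) + 2 * (n + 1) := by ring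
          omega
        rw [show ρ x (ρ (e ^ (n + 1)) w) = ρ c (ρ e (ρ x (ρ (e ^ n) w))) by
          rw [pow_succ', rho_mul, ← rho_mul x e, hxe, rho_mul, rho_mul],
          ih, map_smul, map_smul, ← rho_mul e, ← pow_succ', hcU _ _ hxw, smul_smul, hTs, pow_add s (T n) (n + 1)]
    let lam : Fin p → k := fun j => (s ^ T j)⁻¹
    have hj : ∀ j : Fin p, finrank k (C ⊓ E j : Submodule k V) ≤
        finrank k (End.eigenspace (ρ c) 1 ⊓ End.eigenspace (ρ x) (lam j) : Submodule k V) := by
      intro j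
      refine le_trans (le_of_eq (Submodule.equivMapOfInjective _
        (rho_injective (ρ := ρ) ((e ^ (j : ℕ))⁻¹)) _).finrank_eq) (Submodule.finrank_mono ?_)
      rintro _ ⟨v, ⟨hvC, hvE⟩, rfl⟩
      set w := ρ (e ^ (j : ℕ))⁻¹ v with hw
      have hv' : ρ (e ^ (j : ℕ)) w = v := by rw [hw, ← rho_mul, mul_inv_cancel, rho_one]
      have hs0 : s ≠ 0 := fun e0 => by
        rw [e0, zero_pow hp.out.ne_zero] at hs; exact zero_ne_one hs
      have hw1 : ρ c w = w := by
        -- `ρ (e^j)⁻¹` lowers the eigenvalue by `s^j`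
        have hlow : ∀ n : ℕ, ∀ y, ρ c (ρ (e ^ n) y) = s ^ n • ρ (e ^ n) (ρ c y) := by
          intro n y
          induction n with
          | zero => simp
          | succ n ih =>
            rw [pow_succ', rho_mul]
            have h1 := LinearMap.congr_fun hcm (ρ (e ^ n) y)
            simp only [End.mul_apply, LinearMap.smul_apply] at h1
            rw [h1, ih, map_smul, smul_smul, rho_mul, pow_succ']
        have h1 := hlow j w
        rw [hv', End.mem_eigenspace_iff.1 hvE] at h1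
        have h2 := smul_right_injective V (pow_ne_zero _ hs0) h1
        exact rho_injective (e ^ (j : ℕ)) (by rw [← h2, hv'])
      have hwE : w ∈ End.eigenspace (ρ c) 1 := End.mem_eigenspace_iff.2 (by rw [hw1, one_smul])
      refine ⟨hwE, End.mem_eigenspace_iff.2 ?_⟩
      have h1 := hxU j w hwE
      rw [hv', hCx v hvC] at h1
      apply rho_injective (ρ := ρ) (e ^ (j : ℕ))
      rw [map_smul, hv']
      conv_rhs => rw [h1]
      rw [smul_smul, inv_mul_cancel₀ (pow_ne_zero _ hs0), one_smul]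
    have hfib : ∀ y : k, (Finset.univ.filter fun j : Fin p => lam j = y).card ≤ 2 := by
      intro y
      by_contra hcon
      push Not at hcon
      obtain ⟨a, b, d, ha, hb, hd, hab, had, hbd⟩ := Finset.two_lt_card_iff.1 hcon
      simp only [Finset.mem_filter, Finset.mem_univ, true_and] at ha hb hd
      have key : ∀ i j : Fin p, i ≠ j → lam i = lam j → p ∣ (i : ℕ) + j + 1 := by
        intro i j hij hl
        have h1 : T i ≡ T j [MOD p] := by
          have hos := orderOf_eq_prime hs hs1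
          have hl' : s ^ T i = s ^ T j := inv_inj.1 hl
          have hs0 : s ≠ 0 := fun e0 => by
            rw [e0, zero_pow hp.out.ne_zero] at hs; exact zero_ne_one hs
          have hu : (Units.mk0 s hs0) ^ T i = (Units.mk0 s hs0) ^ T j := Units.ext (by simpa using hl')
          have := pow_eq_pow_iff_modEq.1 hu
          rw [← orderOf_units, Units.val_mk0] at this
          rwa [hos] at this
        have h2 := (h1.mul_left 2).symm
        rw [hT, hT, Nat.modEq_iff_dvd] at h2
        have h3 : (p : ℤ) ∣ ((i : ℤ) - j) * ((i : ℤ) + j + 1) := by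
          refine h2.trans (dvd_of_eq ?_)
          push_cast
          ring
        rcases (Nat.prime_iff_prime_int.1 hp.out).dvd_or_dvd h3 with h4 | h4
        · exfalso
          refine hij (Fin.ext ?_)
          have := Int.eq_zero_of_abs_lt_dvd h4 (abs_lt.2 ⟨by omega, by omega⟩)
          omega
        · exact_mod_cast h4
      have k1 := key a b hab (ha.trans hb.symm)
      have k2 := key a d had (ha.trans hd.symm)
      have h5 : ((a : ℕ) + b + 1 : ℕ) ≡ ((a : ℕ) + d + 1 : ℕ) [MOD p] :=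
        (Nat.modEq_zero_iff_dvd.2 k1).trans (Nat.modEq_zero_iff_dvd.2 k2).symm
      exact hbd (Fin.ext ((Nat.ModEq.add_left_cancel' (a : ℕ)
        (Nat.ModEq.add_right_cancel' 1 h5)).eq_of_lt_of_lt b.2 d.2))
    have hsum : ∑ j : Fin p, finrank k
        (End.eigenspace (ρ c) 1 ⊓ End.eigenspace (ρ x) (lam j) : Submodule k V) ≤
        2 * finrank k (End.eigenspace (ρ c) 1) := by
      rw [← Finset.sum_fiberwise_of_maps_to (fun j _ => Finset.mem_image_of_mem lam (Finset.mem_univ j))]
      refine le_trans (Finset.sum_le_sum (g := fun y => 2 * finrank k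
        (End.eigenspace (ρ c) 1 ⊓ End.eigenspace (ρ x) y : Submodule k V)) fun y _ => ?_) ?_
      · rw [Finset.sum_congr rfl fun j hj' => by rw [(Finset.mem_filter.1 hj').2], Finset.sum_const,
          smul_eq_mul]
        exact Nat.mul_le_mul_right _ (hfib y)
      rw [← Finset.mul_sum, ← Finset.sum_coe_sort]
      exact Nat.mul_le_mul_left 2 (sum_eigen_le (ρ x) _ Subtype.val_injective _)
    have h2 := Nat.mul_le_mul_left p ((hCle.trans (Finset.sum_le_sum fun j _ => hj j)).trans hsum)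
    have h3 := Nat.mul_le_mul_left 2 hV0
    rw [mul_left_comm] at h2
    omega

end CfsgLib.PGroup.FixedHalf
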